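import Cfsg.Agent.Lib.SLG.Fld

/-!
A maximal commutative invariant algebra of endomorphisms of an irreducible module and its blocks.
-/

set_option autoImplicit false

namespace Cfsg.Agent.SLG

open Subgroup Module Cfsg.Agent.OO
open scoped Pointwise commutatorElement

universe u

variable {k : Type*} {H : Type u} {V : Type*} [Field k] [Group H] [AddCommGroup V] [Module k V]
  (ρ : H →* End k V)

/-- irreducibility -/
def Irr : Prop := ∀ S : Submodule k V, (∀ h, ∀ v ∈ S, ρ h v ∈ S) → S = ⊥ ∨ S = ⊤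

structure Blk (L : Subalgebra k (End k V)) (e : End k V) : Prop where
  irr : Irr ρ
  comm : ∀ a ∈ L, ∀ b ∈ L, a * b = b * a
  inv : ∀ h, ∀ a ∈ L, cj ρ h a ∈ L
  max : ∀ S : Set (End k V), (∀ a ∈ S, ∀ b ∈ S, a * b = b * a) → (∀ h, ∀ a ∈ S, cj ρ h a ∈ S) →
    (L : Set (End k V)) ⊆ S → S ⊆ L
  mem : e ∈ L
  idem : e * e = e
  ne : e ≠ 0
  bij : ∀ x ∈ L, x * e = 0 ∨ ∀ v, x (e v) = 0 → e v = 0

variable {ρ}

theorem inv_apply (h : H) (v : V) : ρ h⁻¹ (ρ h v) = v := by
  rw [← End.mul_apply, ← map_mul, inv_mul_cancel, map_one, End.one_apply]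

theorem Irr.kill (hi : Irr ρ) {P : Set (End k V)} (hP : ∀ h, ∀ x ∈ P, cj ρ h x ∈ P) {v : V}
    (hv : v ≠ 0) (h0 : ∀ x ∈ P, x v = 0) : ∀ x ∈ P, x = 0 := by
  refine (hi (⨅ x ∈ P, LinearMap.ker x) fun h w hw => ?_).elim (fun e => ?_) fun e x hx => ?_
  rotate_left
  · exact absurd (e.le (by simpa using h0)) hv
  · ext w
    have : ∀ x ∈ P, x w = 0 := by simpa using e.ge (Submodule.mem_top (x := w))
    exact this x hx
  · simp only [Submodule.mem_iInf, LinearMap.mem_ker] at hw ⊢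
    intro x hx
    have := congrArg (ρ h) (hw _ (hP h⁻¹ x hx))
    rwa [map_zero, ← End.mul_apply, ← cj_mul_rho, cj_cj, mul_inv_cancel, cj_one] at this

theorem exists_blk [Finite V] [Nontrivial V] (hi : Irr ρ) : ∃ L e, Blk ρ L e := by
  have : Finite (End k V) := Finite.of_injective _ DFunLike.coe_injective
  have : Finite (Subalgebra k (End k V)) := Finite.of_injective _ SetLike.coe_injective
  obtain ⟨L, ⟨hc, hn⟩, hm⟩ := exists_maximal_of_wellFoundedGT (fun L : Subalgebra k (End k V) =>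
    (∀ a ∈ L, ∀ b ∈ L, a * b = b * a) ∧ ∀ h, ∀ a ∈ L, cj ρ h a ∈ L) ⟨⊥, by
      rintro _ ⟨a, rfl⟩ b _
      exact Algebra.commutes a b, by
      rintro h _ ⟨a, rfl⟩
      exact ⟨a, ((cj ρ h).commutes a).symm⟩⟩
  obtain ⟨f, ⟨hf, hf0⟩, hmin⟩ := exists_minimalFor_of_wellFoundedLT
    (fun x : End k V => x ∈ L ∧ x ≠ 0) (fun x => finrank k (LinearMap.range x))
    ⟨1, L.one_mem, one_ne_zero⟩
  have key : ∀ x ∈ L, x ≠ 0 → LinearMap.range x ≤ LinearMap.range f →
      LinearMap.range x = LinearMap.range f := fun x hx h0 hle =>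
    Submodule.eq_of_le_of_finrank_le hle (hmin ⟨hx, h0⟩ (Submodule.finrank_mono hle))
  have inj : ∀ x ∈ L, x * f ≠ 0 → ∀ w ∈ LinearMap.range f, x w = 0 → w = 0 := by
    intro x hx h0 w hw e
    have hx' : ∀ w ∈ LinearMap.range f, x w ∈ LinearMap.range f := by
      rintro _ ⟨v, rfl⟩
      exact ⟨x v, LinearMap.congr_fun (hc f hf x hx) v⟩
    have h1 := key _ (L.mul_mem hx hf) h0 (by rintro _ ⟨v, rfl⟩; exact hx' _ ⟨v, rfl⟩)
    have h2 : Function.Surjective (x.restrict hx') := fun ⟨y, hy⟩ => by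
      obtain ⟨v, rfl⟩ := h1.ge hy
      exact ⟨⟨f v, v, rfl⟩, rfl⟩
    exact congrArg Subtype.val ((injective_iff_map_eq_zero _).1
      (Finite.injective_iff_surjective.2 h2) ⟨w, hw⟩ (Subtype.ext e))
  have hff : f * f ≠ 0 := fun e => by
    obtain ⟨v, hv⟩ := DFunLike.ne_iff.1 hf0
    refine hf0 (hi.kill (P := {x | x ∈ L ∧ x * x = 0})
      (fun h x hx => ⟨hn h x hx.1, by rw [← map_mul, hx.2, map_zero]⟩) hv (fun x hx => ?_) f ⟨hf, e⟩)
    by_cases h0 : x * f = 0
    · exact LinearMap.congr_fun h0 v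
    · exact inj x hx.1 h0 _ ⟨x v, LinearMap.congr_fun (hc f hf x hx.1) v⟩
        (LinearMap.congr_fun hx.2 (f v))
  have inj2 : ∀ y z : End k V, LinearMap.range y ≤ LinearMap.range f →
      LinearMap.range z ≤ LinearMap.range f → f * y = f * z → y = z := fun y z hy hz e => by
    ext v
    refine sub_eq_zero.1 (inj f hf hff _ (sub_mem (hy ⟨v, rfl⟩) (hz ⟨v, rfl⟩)) ?_)
    rw [map_sub, sub_eq_zero]
    exact LinearMap.congr_fun e v
  obtain ⟨⟨e, he, her⟩, h1⟩ := Finite.surjective_of_injective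
    (f := fun z : {z // z ∈ L ∧ LinearMap.range z ≤ LinearMap.range f} =>
      (⟨f * z.1, L.mul_mem hf z.2.1, LinearMap.range_comp_le_range _ _⟩ :
        {z // z ∈ L ∧ LinearMap.range z ≤ LinearMap.range f}))
    (fun y z e => Subtype.ext (inj2 _ _ y.2.2 z.2.2 (congrArg Subtype.val e))) ⟨f, hf, le_rfl⟩
  replace h1 : f * e = f := congrArg Subtype.val h1
  have he0 : e ≠ 0 := fun h => hf0 (by rw [← h1, h, mul_zero])
  refine ⟨L, e, hi, hc, hn, fun S hS hSn hLS => ?_, he, inj2 _ _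
    ((LinearMap.range_comp_le_range _ _).trans her) her (by rw [← mul_assoc, h1, h1]), he0,
    fun x hx => ?_⟩
  · have := Algebra.isMulCommutative_adjoin k hS
    refine Algebra.subset_adjoin.trans (hm (y := Algebra.adjoin k S)
      ⟨fun a ha b hb => setLike_mul_comm (s := Algebra.adjoin k S) ha hb, fun h a ha => ?_⟩
      (hLS.trans Algebra.subset_adjoin))
    exact (Algebra.adjoin_le (S := (Algebra.adjoin k S).comap (cj ρ h))
      fun x hx => Algebra.subset_adjoin (hSn h x hx)) ha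
  · by_cases h0 : x * f = 0
    · refine Or.inl (LinearMap.ext fun v => ?_)
      obtain ⟨w, hw⟩ := her ⟨v, rfl⟩
      rw [End.mul_apply, ← hw]
      exact LinearMap.congr_fun h0 w
    · exact Or.inr fun v => inj x hx h0 _ (her ⟨v, rfl⟩)

variable (ρ) in
/-- stabilizer of a block -/
def stab (e : End k V) : Subgroup H where
  carrier := {g | cj ρ g e = e}
  mul_mem' ha hb := by rw [Set.mem_setOf_eq, ← cj_cj, hb, ha]
  one_mem' := cj_one ρ e
  inv_mem' {g} hg := cj_inj ρ g (by rw [cj_cj, mul_inv_cancel, cj_one, hg])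

theorem cj_out (e : End k V) (g : H) : cj ρ (g : H ⧸ stab ρ e).out e = cj ρ g e := by
  obtain ⟨n, hn⟩ := QuotientGroup.mk_out_eq_mul (stab ρ e) g
  rw [hn, ← cj_cj, n.2]

theorem stab_comm {e : End k V} {g : H} (hg : g ∈ stab ρ e) : ρ g * e = e * ρ g :=
  (cj_eq_iff ρ).1 hg

namespace Blk

variable {L : Subalgebra k (End k V)} {e : End k V} (h : Blk ρ L e)
include h

theorem orth {g : H} (hg : g ∉ stab ρ e) : cj ρ g e * e = 0 := by
  have key : ∀ g, cj ρ g e * e ≠ 0 → cj ρ g e * e = e := fun g h0 => by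
    ext v
    have := (h.bij _ (h.inv g e h.mem)).resolve_left h0 (cj ρ g e v - v) (by
      rw [map_sub, map_sub, sub_eq_zero, ← End.mul_apply e, ← h.comm _ (h.inv g e h.mem) _ h.mem,
        End.mul_apply, ← End.mul_apply, ← map_mul, h.idem])
    rwa [map_sub, sub_eq_zero, ← End.mul_apply, ← h.comm _ (h.inv g e h.mem) _ h.mem] at this
  by_contra h0
  have h1 := congrArg (cj ρ g⁻¹) (key g h0)
  rw [map_mul, cj_cj, inv_mul_cancel, cj_one, ← h.comm _ (h.inv _ e h.mem) _ h.mem] at h1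
  refine hg (inv_inv g ▸ (stab ρ e).inv_mem (h1.symm.trans (key _ ?_)))
  rw [h1, ← map_zero (cj ρ g⁻¹)]
  exact (cj_inj ρ _).ne h.ne

theorem orth' {g : H} (hg : g ∉ stab ρ e) : e * cj ρ g e = 0 :=
  (h.comm _ h.mem _ (h.inv _ e h.mem)).trans (h.orth hg)

theorem orth_out {q q' : H ⧸ stab ρ e} (hq : q ≠ q') : cj ρ q.out e * cj ρ q'.out e = 0 := by
  have := congrArg (cj ρ q.out) (h.orth' (g := q.out⁻¹ * q'.out) fun hh => hq (by
    rw [← q.out_eq, ← q'.out_eq]; exact QuotientGroup.eq.2 hh))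
  rwa [map_mul, cj_cj, mul_inv_cancel_left, map_zero] at this

theorem eq_zero {x : End k V} (hx : ∀ q : H ⧸ stab ρ e, x * cj ρ q.out e = 0) : x = 0 := by
  obtain ⟨v, hv⟩ := DFunLike.ne_iff.1 h.ne
  refine h.irr.kill (P := {x | ∀ g, x * cj ρ g e = 0}) (fun g x hx g' => ?_) hv
    (fun x hx => by simpa using LinearMap.congr_fun (hx 1) v) x fun g => cj_out e g ▸ hx _
  rw [← mul_inv_cancel_left g g', ← cj_cj, ← map_mul, hx, map_zero]

theorem ext {x y : End k V} (hx : ∀ q : H ⧸ stab ρ e, x * cj ρ q.out e = y * cj ρ q.out e) :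
    x = y := sub_eq_zero.1 (h.eq_zero fun q => by rw [sub_mul, hx, sub_self])

theorem sum_eq [Fintype (H ⧸ stab ρ e)] : ∑ q : H ⧸ stab ρ e, cj ρ q.out e = 1 :=
  h.ext fun q => by
    rw [Finset.sum_mul, Finset.sum_eq_single q (fun q' _ hq => h.orth_out hq) (by simp), one_mul,
      ← map_mul, h.idem]

/-- decomposition of the module into blocks -/
noncomputable def dec [Fintype (H ⧸ stab ρ e)] :
    V ≃ₗ[k] (H ⧸ stab ρ e → LinearMap.range e) :=
  LinearEquiv.ofBijective (LinearMap.pi fun q => e.rangeRestrict ∘ₗ ρ q.out⁻¹) ⟨by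
    refine (injective_iff_map_eq_zero _).2 fun v hv => ?_
    rw [← End.one_apply (R := k) v, ← h.sum_eq, LinearMap.sum_apply]
    refine Finset.sum_eq_zero fun q _ => ?_
    have : e (ρ q.out⁻¹ v) = 0 := congrArg Subtype.val (congrFun hv q)
    rw [cj_apply, End.mul_apply, End.mul_apply, this, map_zero], fun w => by
    refine ⟨∑ q, ρ q.out (w q), funext fun q => Subtype.ext ?_⟩
    show e (ρ q.out⁻¹ _) = _
    rw [map_sum, map_sum, Finset.sum_eq_single q (fun q' _ hq => ?_) (by simp)]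
    · obtain ⟨v, hv⟩ := (w q).2
      rw [← hv, ← End.mul_apply (ρ _), ← map_mul, inv_mul_cancel, map_one, End.one_apply,
        ← End.mul_apply, h.idem]
    · obtain ⟨v, hv⟩ := (w q').2
      have := congrArg (fun x => ρ q.out⁻¹ (x (ρ q'.out v))) (h.orth_out hq.symm)
      simpa [cj_apply, ← hv, inv_apply] using this⟩

theorem dec_apply [Fintype (H ⧸ stab ρ e)] (v : V) (q : H ⧸ stab ρ e) :
    (h.dec v q : V) = e (ρ q.out⁻¹ v) := rfl

theorem finrank_eq [Finite H] [Finite V] :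
    finrank k V = finrank k (LinearMap.range e) * (stab ρ e).index := by
  have := Fintype.ofFinite (H ⧸ stab ρ e)
  rw [h.dec.finrank_eq, finrank_pi_fintype, index, Nat.card_eq_fintype_card, Finset.sum_const,
    Finset.card_univ, smul_eq_mul, mul_comm]

theorem exists_inv [Finite H] : ∃ c : V → ℕ, (∀ g v, c (ρ g v) = c v) ∧ c 0 = 0 ∧
    ∀ j ≤ (stab ρ e).index, ∃ v, c v = j := by
  classical
  have := Fintype.ofFinite (H ⧸ stab ρ e)
  refine ⟨fun v => {q : H ⧸ stab ρ e | cj ρ q.out e v ≠ 0}.ncard, fun g v => ?_, by simp,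
    fun j hj => ?_⟩
  · refine (Set.ncard_congr (fun q _ => g • q) (fun q hq => ?_)
      (fun q q' _ _ e => MulAction.injective g e) fun q hq => ⟨g⁻¹ • q, ?_, by simp⟩).symm
    · rw [← q.out_eq', MulAction.Quotient.smul_mk, Set.mem_setOf_eq, cj_out, smul_eq_mul, ← cj_cj,
        ← End.mul_apply, cj_mul_rho, End.mul_apply]
      exact fun e => hq (by simpa [← End.mul_apply, ← mul_assoc, ← map_mul] using congrArg (ρ g⁻¹) e)
    · rw [← q.out_eq', MulAction.Quotient.smul_mk, Set.mem_setOf_eq, cj_out, smul_eq_mul, ← cj_cj]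
      refine fun e => hq ?_
      have := congrArg (ρ g) e
      rwa [map_zero, ← End.mul_apply, ← cj_mul_rho, cj_cj, mul_inv_cancel, cj_one] at this
  · rw [index, Nat.card_eq_fintype_card] at hj
    obtain ⟨S, -, hS⟩ := Finset.exists_subset_card_eq (s := Finset.univ) hj
    obtain ⟨v, hv⟩ := DFunLike.ne_iff.1 h.ne
    obtain ⟨w, hw⟩ := h.dec.surjective fun q => if q ∈ S then ⟨e v, v, rfl⟩ else 0
    refine ⟨w, ?_⟩
    rw [← hS, ← Set.ncard_coe_finset]
    refine congrArg Set.ncard (Set.ext fun q => ?_)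
    have h1 := h.dec_apply w q
    rw [Set.mem_setOf_eq, cj_apply, End.mul_apply, End.mul_apply, ← h1, hw, Finset.mem_coe]
    beta_reduce
    split_ifs with hq
    · exact iff_of_true (fun e => hv (by simpa [inv_apply] using congrArg (ρ q.out⁻¹) e)) hq
    · simpa using hq

end Blk

end Cfsg.Agent.SLG
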