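import Cfsg.Agent.Lib.SLG.Prim
import Cfsg.Agent.Lib.Cls.Basic

/-!
Counting conjugacy classes: classes in normal subgroups, Landau's bounds for at most five classes.
-/

set_option autoImplicit false

namespace Cfsg.Agent.SLG

open Subgroup Cfsg.Agent.OO
open scoped Pointwise commutatorElement

universe u

variable {G : Type u} [Group G] [Finite G]

/-- number of nontrivial classes meeting `N` -/
noncomputable def nu (N : Subgroup G) : ℕ := (ConjClasses.mk '' ((N : Set G) \ {1})).ncard

theorem add_nu_le {H : Type*} [Group H] {f : G →* H} (hf : Function.Surjective f) {N : Subgroup G}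
    (hN : N ≤ f.ker) : Nat.card (ConjClasses H) + nu N ≤ Nat.card (ConjClasses G) := by
  classical
  have hs := ConjClasses.map_surjective hf
  let s : ConjClasses H → ConjClasses G := fun c => if c = 1 then 1 else Function.surjInv hs c
  have h1 : ∀ c, ConjClasses.map f (s c) = c := fun c => by
    simp only [s]
    split_ifs with h
    · rw [h]; exact congrArg ConjClasses.mk (map_one f)
    · exact Function.surjInv_eq hs c
  rw [← Nat.card_range_of_injective (Function.LeftInverse.injective h1), Nat.card_coe_set_eq, nu,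
    ← Set.ncard_union_eq (Set.disjoint_left.2 ?_), ← Set.ncard_univ]
  · exact Set.ncard_le_ncard (Set.subset_univ _)
  rintro _ ⟨c, rfl⟩ ⟨x, hx, e⟩
  have h2 : c = 1 := by rw [← h1 c, ← e]; exact congrArg ConjClasses.mk (hN hx.1)
  simp only [s, h2, if_true] at e
  exact hx.2 (isConj_one_left.1 (ConjClasses.mk_eq_mk_iff_isConj.1 e))

theorem card_le_nu {N : Subgroup G} {t : ℕ} (h : ∀ x ∈ N, 𝐂[x].index ≤ t) : ♯N ≤ t * nu N + 1 := by
  classical
  have := Finset.card_le_mul_card_image (f := ConjClasses.mk) ((N : Set G) \ {1}).toFinite.toFinset t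
    fun c hc => by
      obtain ⟨x, hx, rfl⟩ := Finset.mem_image.1 hc
      refine le_trans ?_ ((Cls.ncard_carrier_mk x).le.trans (h x (by simp_all)))
      rw [← Set.ncard_coe_finset]
      exact Set.ncard_le_ncard fun y hy => ConjClasses.mem_carrier_iff_mk_eq.2 (by simp_all)
  rw [← Set.ncard_coe_finset (Finset.image _ _), Finset.coe_image, Set.Finite.coe_toFinset,
    ← Set.ncard_eq_toFinset_card, Set.ncard_sdiff_singleton_of_mem (one_mem _)] at this
  exact Nat.le_add_of_sub_le this

theorem le_nu {N : Subgroup G} {m : ℕ} {c : G → ℕ} (h1 : ∀ g, ∀ x ∈ N, c (g * x * g⁻¹) = c x)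
    (h2 : c 1 = 0) (h3 : ∀ j ≤ m, ∃ x ∈ N, c x = j) : m ≤ nu N := by
  choose! v hv hc using h3
  have := Set.ncard_le_ncard_of_injOn (s := Set.Icc 1 m) (t := ConjClasses.mk '' ((N : Set G) \ {1}))
    (fun j => ConjClasses.mk (v j)) (fun j hj => ⟨v j, ⟨hv j hj.2, fun e => by
      have := hc j hj.2
      rw [e, h2] at this
      exact absurd hj.1 (by omega)⟩, rfl⟩) fun i hi j hj e => by
      obtain ⟨g, hg⟩ := isConj_iff.1 (ConjClasses.mk_eq_mk_iff_isConj.1 e)
      rw [← hc i hi.2, ← hc j hj.2, ← hg, h1 g _ (hv i hi.2)]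
  simpa [nu] using this

theorem lt_of_inv {a r : ℕ} (hr : 0 < r) (h : 1 / (r : ℚ) < 1 / a) : a < r := by
  by_contra hh
  exact h.not_ge (one_div_le_one_div_of_le (by exact_mod_cast hr) (by exact_mod_cast not_lt.1 hh))

theorem inv_le_of {a b : ℕ} (ha : 0 < a) (h : a ≤ b) : 1 / (b : ℚ) ≤ 1 / a :=
  one_div_le_one_div_of_le (by exact_mod_cast ha) (by exact_mod_cast h)

theorem cur1 {a : ℕ} (h : 1 / (a : ℚ) < 1) : 1 / (a : ℚ) ≤ 1 / 2 := by
  by_contra hh
  have := lt_of_inv (a := a) two_pos (by simpa using hh)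
  interval_cases a <;> norm_num at *

theorem cur2 {a b : ℕ} (ha : 0 < a) (h1 : a ≤ b) (h : 1 / (a : ℚ) + 1 / b < 1) :
    1 / (a : ℚ) + 1 / b ≤ 5 / 6 := by
  by_contra! hh
  have := inv_le_of ha h1
  have : 0 ≤ 1 / (b : ℚ) := by positivity
  have := cur1 (a := a) (by linarith)
  have := lt_of_inv (a := b) three_pos (by push_cast; linarith)
  interval_cases b <;> interval_cases a <;> norm_num at *

theorem cur3 {a b c : ℕ} (ha : 0 < a) (h1 : a ≤ b) (h2 : b ≤ c)
    (h : 1 / (a : ℚ) + 1 / b + 1 / c < 1) : 1 / (a : ℚ) + 1 / b + 1 / c ≤ 41 / 42 := by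
  by_contra! hh
  have : 0 ≤ 1 / (c : ℚ) := by positivity
  have := cur2 ha h1 (by linarith)
  have h3 := lt_of_inv (a := c) (r := 7) (by norm_num) (by push_cast; linarith)
  have : ∀ a < 7, ∀ b < 7, ∀ c < 7, 1 / ((a : ℕ) : ℚ) + 1 / (b : ℕ) + 1 / (c : ℕ) < 1 →
    1 / ((a : ℕ) : ℚ) + 1 / (b : ℕ) + 1 / (c : ℕ) ≤ 41 / 42 := by decide +kernel
  exact hh.not_ge (this a (by omega) b (by omega) c h3 h)

theorem cur4 {a b c d : ℕ} (ha : 0 < a) (h1 : a ≤ b) (h2 : b ≤ c) (h3 : c ≤ d)
    (h : 1 / (a : ℚ) + 1 / b + 1 / c + 1 / d < 1) :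
    1 / (a : ℚ) + 1 / b + 1 / c + 1 / d ≤ 1805 / 1806 := by
  by_contra! hh
  have := inv_le_of ha h1
  have := inv_le_of (by omega) h2
  have := inv_le_of (by omega) h3
  have : 0 ≤ 1 / (d : ℚ) := by positivity
  have := cur1 (a := a) (by linarith)
  have := cur2 ha h1 (by linarith)
  have := cur3 ha h1 h2 (by linarith)
  have h4 := lt_of_inv (a := a) (r := 5) (by norm_num) (by push_cast; linarith)
  have h5 := lt_of_inv (a := b) (r := 7) (by norm_num) (by push_cast; linarith)
  have h6 := lt_of_inv (a := c) (r := 13) (by norm_num) (by push_cast; linarith)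
  have h7 := lt_of_inv (a := d) (r := 43) (by norm_num) (by push_cast; linarith)
  have : ∀ a < 5, ∀ b < 7, ∀ c < 13, ∀ d < 43, b * c * d + a * c * d + a * b * d + a * b * c <
    a * b * c * d → (b * c * d + a * c * d + a * b * d + a * b * c) * 1806 ≤ 1805 * (a * b * c * d) := by
    decide +kernel
  have hb : 0 < b := by omega
  have hc : 0 < c := by omega
  have hd : 0 < d := by omega
  have e : 1 / (a : ℚ) + 1 / b + 1 / c + 1 / d =
      (b * c * d + a * c * d + a * b * d + a * b * c : ℕ) / (a * b * c * d : ℕ) := by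
    push_cast; field_simp
  rw [e, div_lt_one (by positivity)] at h
  rw [e, div_lt_div_iff₀ (by positivity) (by positivity)] at hh
  exact (this a h4 b h5 c h6 d h7 (by exact_mod_cast h)).not_gt (by exact_mod_cast hh)

theorem curtiss (l : List ℕ) (h0 : ∀ a ∈ l, 0 < a) (hs : l.Pairwise (· ≤ ·)) {x : ℚ}
    (hx : (l.map fun a : ℕ => 1 / (a : ℚ)).sum = x) (h : x < 1) :
    (l.length ≤ 0 → x ≤ 0) ∧ (l.length ≤ 1 → x ≤ 1 / 2) ∧ (l.length ≤ 2 → x ≤ 5 / 6) ∧
      (l.length ≤ 3 → x ≤ 41 / 42) ∧ (l.length ≤ 4 → x ≤ 1805 / 1806) := by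
  subst hx
  match l, h0, hs, h with
  | [], _, _, _ => norm_num
  | [a], _, _, h =>
    simp only [List.map, List.sum_cons, List.sum_nil, add_zero, List.length] at h ⊢
    have := cur1 h
    exact ⟨by omega, fun _ => this, fun _ => by linarith, fun _ => by linarith, fun _ => by linarith⟩
  | [a, b], h0, hs, h =>
    simp only [List.map, List.sum_cons, List.sum_nil, add_zero, List.length] at h ⊢
    have := cur2 (h0 a (by simp)) (by simp_all) h
    exact ⟨by omega, by omega, fun _ => this, fun _ => by linarith, fun _ => by linarith⟩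
  | [a, b, c], h0, hs, h =>
    simp only [List.map, List.sum_cons, List.sum_nil, add_zero, List.length, ← add_assoc] at h ⊢
    have := cur3 (h0 a (by simp)) (by simp_all) (by simp_all) h
    exact ⟨by omega, by omega, by omega, fun _ => this, fun _ => by linarith⟩
  | [a, b, c, d], h0, hs, h =>
    simp only [List.map, List.sum_cons, List.sum_nil, add_zero, List.length, ← add_assoc] at h ⊢
    have := cur4 (h0 a (by simp)) (by simp_all) (by simp_all) (by simp_all) h
    exact ⟨by omega, by omega, by omega, by omega, fun _ => this⟩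
  | _ :: _ :: _ :: _ :: _ :: _, _, _, _ =>
    simp only [List.length]
    exact ⟨by omega, by omega, by omega, by omega, by omega⟩

variable (G) in
/-- Landau's bounds -/
theorem landau : (Nat.card (ConjClasses G) ≤ 1 → Nat.card G ≤ 1) ∧
    (Nat.card (ConjClasses G) ≤ 2 → Nat.card G ≤ 2) ∧ (Nat.card (ConjClasses G) ≤ 3 → Nat.card G ≤ 6) ∧
    (Nat.card (ConjClasses G) ≤ 4 → Nat.card G ≤ 42) ∧
    (Nat.card (ConjClasses G) ≤ 5 → Nat.card G ≤ 1806) := by
  classical
  have := Fintype.ofFinite (ConjClasses G)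
  have hG : (0 : ℚ) < Nat.card G := by exact_mod_cast Nat.card_pos
  have h1 := Group.sum_card_conj_classes_eq_card G
  rw [finsum_eq_sum_of_fintype, ← Finset.add_sum_erase _ _ (Finset.mem_univ 1),
    ConjClasses.one_eq_mk_one, Cls.ncard_carrier_mk, cent1_one, index_top] at h1
  set s := Finset.univ.erase (ConjClasses.mk (1 : G))
  have h2 : ∀ c : ConjClasses G, (c.carrier.ncard : ℚ) = Nat.card G * (1 / ♯𝐂[c.out]) := fun c => by
    have h3 : ConjClasses.mk c.out = c := c.out_eq
    have : (0 : ℚ) < ♯𝐂[c.out] := by exact_mod_cast Nat.card_pos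
    rw [← 𝐂[c.out].index_mul_card, ← Cls.ncard_carrier_mk, h3]
    push_cast
    field_simp
  have h3 : ∑ c ∈ s, 1 / (♯𝐂[c.out] : ℚ) = 1 - 1 / Nat.card G := by
    have : (1 : ℚ) + ∑ c ∈ s, (c.carrier.ncard : ℚ) = Nat.card G := by exact_mod_cast h1
    simp only [h2, ← Finset.mul_sum] at this
    field_simp
    linarith
  have h4 := curtiss ((s.val.map fun c => ♯𝐂[c.out]).sort (· ≤ ·)) (fun a ha => by
    obtain ⟨c, -, rfl⟩ := Multiset.mem_map.1 ((Multiset.mem_sort _).1 ha)
    exact Nat.card_pos) (Multiset.pairwise_sort _ _) (x := 1 - 1 / Nat.card G) (by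
      rw [← h3, ← Multiset.sum_coe, ← Multiset.map_coe, Multiset.sort_eq, Multiset.map_map]; rfl)
    (by simpa using hG)
  rw [Multiset.length_sort, Multiset.card_map, Finset.card_val,
    Finset.card_erase_of_mem (Finset.mem_univ _), Finset.card_univ, ← Nat.card_eq_fintype_card] at h4
  have h5 : ∀ r : ℕ, 1 - 1 / (Nat.card G : ℚ) ≤ 1 - 1 / r → 0 < r → Nat.card G ≤ r := fun r h hr => by
    by_contra! hh
    have := one_div_lt_one_div_of_lt (by exact_mod_cast hr : (0 : ℚ) < r)
      (by exact_mod_cast hh : (r : ℚ) < Nat.card G)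
    linarith
  obtain ⟨a1, a2, a3, a4, a5⟩ := h4
  exact ⟨fun h => h5 _ ((a1 (by omega)).trans (by norm_num)) (by norm_num),
    fun h => h5 _ ((a2 (by omega)).trans (by norm_num)) (by norm_num),
    fun h => h5 _ ((a3 (by omega)).trans (by norm_num)) (by norm_num),
    fun h => h5 _ ((a4 (by omega)).trans (by norm_num)) (by norm_num),
    fun h => h5 _ ((a5 (by omega)).trans (by norm_num)) (by norm_num)⟩

end Cfsg.Agent.SLG
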