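import Cfsg.Agent.Lib.SLG.Prim

/-!
Dixon's bound `3 ^ (m - 1)` for the order of a solvable transitive group of degree `m`.
-/

set_option autoImplicit false

namespace Cfsg.Agent.SLG

open Subgroup Cfsg.Agent.OO
open scoped Pointwise commutatorElement

universe u

variable {G : Type u} [Group G] [Finite G]

theorem relIndex_le_pow (N : Subgroup G) {X Y Z : Subgroup G} [hX : X.Normal]
    (h : ∀ g ∈ X, (∀ q : G ⧸ N, q.out⁻¹ * g * q.out ∈ Y) → g ∈ Z) :
    Z.relIndex X ≤ Y.relIndex X ^ N.index := by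
  have := Fintype.ofFinite (G ⧸ N)
  have h1 : (⨅ q : G ⧸ N, q.out •ᶜ Y) ⊓ X ≤ Z := fun g hg =>
    h g hg.2 fun q => mem_conj.1 (mem_iInf.1 hg.1 q)
  refine (relIndex_le_of_le_left h1 (relIndex_pos _ _).ne').trans ?_
  rw [inf_relIndex_right]
  refine (relIndex_iInf_le _).trans (le_of_eq ?_)
  rw [index, Nat.card_eq_fintype_card, ← Finset.card_univ, ← Finset.prod_const]
  refine Finset.prod_congr rfl fun q _ => ?_
  rw [← relIndex_conj q.out Y X, conj_eq_of_mem_norm (H := X) (le_normalizer_of_normal (mem_top _))]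

theorem aut_step {V : Subgroup G} [hV : V.Normal] (e : ℕ) : ∀ Y ≤ V, Y ≠ ⊥ →
    Y.relIndex V < 2 ^ (e + 1) → 2 ^ e ≤ ♯V - 1 → 𝐂(V).relIndex 𝐂(Y) ≤ (♯V - 2) ^ e := by
  induction e with
  | zero =>
    intro Y _ _ h _
    have := relIndex_pos Y V
    rw [relIndex_eq_one.2 (cent_anti (relIndex_eq_one.1 (by omega)))]
    exact le_rfl
  | succ e ih =>
    intro Y hY h0 h h2
    have h3 : 2 ^ e < 2 ^ (e + 1) := Nat.pow_lt_pow_succ one_lt_two
    have h4 : 0 < 2 ^ e := by positivity
    by_cases hVY : V ≤ Y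
    · rw [relIndex_eq_one.2 (cent_anti hVY)]
      exact Nat.one_le_pow _ _ (by omega)
    obtain ⟨x, hx, hxY⟩ := SetLike.not_le_iff_exists.1 hVY
    have hle : Y ⊔ zpowers x ≤ V := sup_le hY (zpowers_le.2 hx)
    have h5 := relIndex_mul_relIndex _ _ _ (le_sup_left : Y ≤ Y ⊔ zpowers x) hle
    have h6 : Y.relIndex (Y ⊔ zpowers x) ≠ 1 := fun e =>
      hxY (relIndex_eq_one.1 e (mem_sup_right (mem_zpowers x)))
    have h7 := relIndex_pos Y (Y ⊔ zpowers x)
    have h8 := ih _ hle (fun e => h0 (le_bot_iff.1 (e ▸ le_sup_left))) (by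
      rw [← h5, pow_succ] at h; nlinarith [show 2 ≤ Y.relIndex (Y ⊔ zpowers x) by omega]) (by omega)
    rw [← relIndex_mul_relIndex _ _ _ (cent_anti hle) (cent_anti le_sup_left), pow_succ]
    refine Nat.mul_le_mul h8 ?_
    rw [cent_sup, cent_zpowers, inf_comm, inf_relIndex_right]
    refine (relIndex_cent1_le (S := (V : Set G) \ Y) fun c hc =>
      ⟨hV.conj_mem x hx c, fun hh => hxY ?_⟩).trans ?_
    · have := mem_cent_iff_conj.1 (inv_mem hc) _ hh
      rw [← this] at hh
      simpa [mul_assoc] using hh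
    · rw [Set.ncard_diff hY]
      exact Nat.sub_le_sub_left (one_lt_card h0) _

theorem dixon_num {m e : ℕ} (h1 : 2 ^ (e + 1) ≤ m) (h2 : m < 2 ^ (e + 2)) :
    m * ((m - 2) ^ e * (m - 1)) ≤ 3 ^ (m - 1) := by
  by_cases he : e < 5
  · have : m < 64 := h2.trans_le (Nat.pow_le_pow_right two_pos (by omega : e + 2 ≤ 6))
    revert m e
    have : ∀ e < 5, ∀ m < 64, 2 ^ (e + 1) ≤ m → m < 2 ^ (e + 2) →
      m * ((m - 2) ^ e * (m - 1)) ≤ 3 ^ (m - 1) := by decide +kernel
    exact fun {m e} h1 h2 he hm => this e he m hm h1 h2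
  have h3 : (e + 2) ^ 2 + 1 ≤ 2 ^ (e + 1) := by
    clear h1 h2
    obtain ⟨k, rfl⟩ := Nat.exists_eq_add_of_le' (not_lt.1 he)
    induction k with
    | zero => norm_num
    | succ k ih =>
      have := ih (by omega)
      rw [pow_succ 2]; nlinarith
  calc _ ≤ m * (m ^ e * m) := by gcongr <;> omega
    _ = m ^ (e + 2) := by ring
    _ ≤ (2 ^ (e + 2)) ^ (e + 2) := by gcongr
    _ = 2 ^ ((e + 2) ^ 2) := by rw [← pow_mul, sq]
    _ ≤ 2 ^ (m - 1) := Nat.pow_le_pow_right two_pos (by omega)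
    _ ≤ _ := by gcongr; norm_num

theorem aut_bound {V : Subgroup G} [hV : V.Normal] (h0 : V ≠ ⊥) :
    ♯V * 𝐂(V).index ≤ 3 ^ (♯V - 1) := by
  obtain ⟨x, hx, hx1⟩ := exists_mem_ne_one h0
  have h2 := one_lt_card h0
  obtain ⟨e, he⟩ : ∃ e, Nat.log 2 ♯V = e + 1 :=
    Nat.exists_eq_succ_of_ne_zero (Nat.log_pos one_lt_two h2).ne'
  have h3 : 2 ^ (e + 1) ≤ ♯V := he ▸ Nat.pow_log_le_self 2 (by omega)
  have h4 : ♯V < 2 ^ (e + 2) := by
    have := Nat.lt_pow_succ_log_self one_lt_two ♯V
    rwa [he] at this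
  have hz : zpowers x ≠ ⊥ := zpowers_ne_bot.2 hx1
  have h5 := card_mul_relIndex (zpowers_le.2 hx)
  have h6 := one_lt_card hz
  have h7 := aut_step e _ (zpowers_le.2 hx) hz (by rw [← h5, pow_succ] at h4; nlinarith)
    (by have : 0 < 2 ^ e := by positivity
        rw [pow_succ] at h3; omega)
  refine le_trans (Nat.mul_le_mul_left _ ?_) (dixon_num h3 h4)
  rw [← relIndex_mul_index (cent_anti (zpowers_le.2 hx)), cent_zpowers] at *
  refine Nat.mul_le_mul h7 ?_
  rw [← relIndex_top_right]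
  refine (relIndex_cent1_le (S := (V : Set G) \ {1}) fun c _ =>
    ⟨hV.conj_mem x hx c, fun e => hx1 (by simpa using e)⟩).trans ?_
  rw [Set.ncard_diff_singleton_of_mem (one_mem _)]; rfl

theorem dixon_corefree [Group.IsSolvable G] {N : Subgroup G} (hN : IsCoatom N)
    (h : ∀ D : Subgroup G, D.Normal → D ≤ N → D = ⊥) : Nat.card G ≤ 3 ^ (N.index - 1) := by
  have : Nontrivial G := by
    by_contra hh
    have := not_nontrivial_iff_subsingleton.1 hh
    exact hN.1 (Subsingleton.elim _ _)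
  obtain ⟨V, hV⟩ := Core.exists_isMinNormal (G := G)
  have hn := hV.normal
  have hab : V ≤ 𝐂(V) := Ab.le_cent (hV.isMulCommutative inferInstance)
  have h1 : V ⊔ N = ⊤ := hN.2 _ (right_lt_sup.2 fun hh => hV.ne_bot (h V hn hh))
  have h2 : 𝐂(V) ⊓ N = ⊥ := h _ (normalizer_eq_top_iff.1 (top_le_iff.1 (h1.ge.trans (sup_le
    (le_norm_of_le_cent (le_cent_symm inf_le_left))
    (le_norm_inf le_normalizer_of_normal (le_norm_self N)))))) inf_le_right
  have h3 := (IsSdprod.mk h1 le_normalizer_of_normal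
    (le_bot_iff.1 ((inf_le_inf_right N hab).trans h2.le))).card
  have h4 := N.index_mul_card
  rw [card_top] at h3
  have h5 : ♯V = N.index := Nat.eq_of_mul_eq_mul_right (card_pos' N) (h3.trans h4.symm)
  have h6 := card_inf_mul_relIndex 𝐂(V) N
  rw [h2, card_bot, one_mul] at h6
  rw [← h5, ← h3, ← h6]
  refine le_trans (Nat.mul_le_mul_left _ ?_) (aut_bound hV.ne_bot)
  rw [← relIndex_top_right]
  exact relIndex_le_of_le_right le_top (relIndex_pos _ _).ne'

theorem dixon_coatom [Group.IsSolvable G] {N : Subgroup G} (hN : IsCoatom N) :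
    N.normalCore.index ≤ 3 ^ (N.index - 1) := by
  set π := QuotientGroup.mk' N.normalCore
  have hs := QuotientGroup.mk'_surjective N.normalCore
  have h1 : (N.map π).comap π = N := by
    rw [comap_map_eq, QuotientGroup.ker_mk', sup_eq_left.2 (normalCore_le N)]
  have := dixon_corefree (N := N.map π) ⟨fun e => hN.1 (by rw [← h1, e, comap_top]), fun K hK => by
      rw [← map_comap_eq_self_of_surjective hs K, hN.2 (K.comap π) (h1.ge.trans_lt ((comap_lt_comap_of_surjective hs).2 hK)),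
        map_top_of_surjective _ hs]⟩ fun D hD hle => by
      have := hD.comap π
      have h2 : D.comap π ≤ N.normalCore := normal_le_normalCore.2 ((comap_mono hle).trans h1.le)
      rw [← map_comap_eq_self_of_surjective hs D, Subgroup.map_eq_bot_iff, QuotientGroup.ker_mk']
      exact h2
  rwa [← index_comap_of_surjective _ hs, h1] at this

theorem dixon (n : ℕ) : ∀ (G : Type u) [Group G] [Finite G] [Group.IsSolvable G] (N : Subgroup G),
    N.index ≤ n → N.normalCore.index ≤ 3 ^ (N.index - 1) := by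
  induction n with
  | zero => exact fun G _ _ _ N h => absurd h (Nat.pos_of_ne_zero index_ne_zero_of_finite).not_ge
  | succ n ih =>
    intro G _ _ _ N h
    rcases eq_top_or_exists_le_coatom N with rfl | ⟨M, hM, hle⟩
    · rw [normalCore_eq_self]; simp
    have h1 := relIndex_mul_index hle
    have h2 : M.index ≠ 1 := mt index_eq_one.1 hM.1
    have h3 : M.index ≠ 0 := index_ne_zero_of_finite
    have h4 := relIndex_pos N M
    have h5 := ih M (N.subgroupOf M) (show N.relIndex M ≤ n by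
      rw [← h1] at h; nlinarith [show 2 ≤ M.index by omega])
    have h6 := relIndex_le_pow M (X := M.normalCore)
      (Y := (N.subgroupOf M).normalCore.map M.subtype) (Z := N.normalCore) fun g _ hg b => by
        obtain ⟨m, hm⟩ := QuotientGroup.mk_out_eq_mul M b⁻¹
        obtain ⟨y, hy, e⟩ := hg (b⁻¹ : G)
        have : ((m * y * m⁻¹ : M) : G) ∈ N := hy m
        rw [hm] at e
        simpa [show (y : G) = _ from e, mul_assoc] using this
    have h7 : ((N.subgroupOf M).normalCore.map M.subtype).relIndex M.normalCore ≤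
        3 ^ (N.relIndex M - 1) :=
      (relIndex_le_of_le_right (normalCore_le M) (relIndex_pos _ _).ne').trans
        ((relIndex_map_subtype _).le.trans h5)
    rw [← relIndex_mul_index (normalCore_mono hle), ← h1]
    refine (Nat.mul_le_mul (h6.trans (Nat.pow_le_pow_left h7 _)) (dixon_coatom hM)).trans ?_
    rw [← pow_mul, ← pow_add]
    refine Nat.pow_le_pow_right three_pos (le_of_eq ?_)
    obtain ⟨a, ha⟩ := Nat.exists_eq_succ_of_ne_zero h4.ne'
    obtain ⟨b, hb⟩ := Nat.exists_eq_succ_of_ne_zero h3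
    rw [ha, hb]
    simp only [Nat.succ_eq_add_one, Nat.add_sub_cancel, Nat.add_mul, one_mul]
    omega

theorem index_normalCore_le (N : Subgroup G) : N.normalCore.index ≤ N.index.factorial := by
  classical
  have := Fintype.ofFinite (G ⧸ N)
  rw [normalCore_eq_ker, index_ker, index, Nat.card_eq_fintype_card (α := G ⧸ N),
    ← Fintype.card_perm, ← Nat.card_eq_fintype_card]
  exact card_le_card_group _

end Cfsg.Agent.SLG
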