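import Cfsg.Agent.Lib.SLG.PW

/-!
The structure theorem in the presence of a normal subgroup of prime order.
-/

set_option autoImplicit false

namespace Cfsg.Agent.SLG

open Subgroup Module Cfsg.Agent.OO
open scoped Pointwise commutatorElement

universe u

variable {k : Type*} {H : Type u} {V : Type*} [Field k] [Group H] [AddCommGroup V] [Module k V]
  {ρ : H →* End k V}

theorem exists_blk' [Finite V] [Nontrivial V] (hi : Irr ρ) {S₀ : Set (End k V)}
    (c₀ : ∀ a ∈ S₀, ∀ b ∈ S₀, a * b = b * a) (n₀ : ∀ h, ∀ a ∈ S₀, cj ρ h a ∈ S₀) :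
    ∃ L e, Blk ρ L e ∧ S₀ ⊆ L := by
  have : Finite (End k V) := Finite.of_injective _ DFunLike.coe_injective
  have : Finite (Subalgebra k (End k V)) := Finite.of_injective _ SetLike.coe_injective
  have adj : ∀ S : Set (End k V), (∀ a ∈ S, ∀ b ∈ S, a * b = b * a) →
      (∀ h, ∀ a ∈ S, cj ρ h a ∈ S) → S₀ ⊆ S →
      (∀ a ∈ Algebra.adjoin k S, ∀ b ∈ Algebra.adjoin k S, a * b = b * a) ∧
      (∀ h, ∀ a ∈ Algebra.adjoin k S, cj ρ h a ∈ Algebra.adjoin k S) ∧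
      S₀ ⊆ Algebra.adjoin k S := fun S hS hSn h0 => by
    have := Algebra.isMulCommutative_adjoin k hS
    exact ⟨fun a ha b hb => setLike_mul_comm (s := Algebra.adjoin k S) ha hb, fun h a ha =>
      (Algebra.adjoin_le (S := (Algebra.adjoin k S).comap (cj ρ h))
        fun x hx => Algebra.subset_adjoin (hSn h x hx)) ha, h0.trans Algebra.subset_adjoin⟩
  obtain ⟨L, ⟨hc, hn, hL⟩, hm⟩ := exists_maximal_of_wellFoundedGT
    (fun L : Subalgebra k (End k V) => (∀ a ∈ L, ∀ b ∈ L, a * b = b * a) ∧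
      (∀ h, ∀ a ∈ L, cj ρ h a ∈ L) ∧ S₀ ⊆ L) ⟨_, adj S₀ c₀ n₀ subset_rfl⟩
  obtain ⟨f, ⟨hf, hf0⟩, hmin⟩ := exists_minimalFor_of_wellFoundedLT
    (fun x : End k V => x ∈ L ∧ x ≠ 0) (fun x => finrank k (LinearMap.range x))
    ⟨1, L.one_mem, one_ne_zero⟩
  have key : ∀ x ∈ L, x ≠ 0 → LinearMap.range x ≤ LinearMap.range f →
      LinearMap.range x = LinearMap.range f := fun x hx h0 hle =>
    Submodule.eq_of_le_of_finrank_le hle (hmin ⟨hx, h0⟩ (Submodule.finrank_mono hle))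
  have inj : ∀ x ∈ L, x * f ≠ 0 → ∀ w ∈ LinearMap.range f, x w = 0 → w = 0 := by
    intro x hx h0 w hw e
    have hx' : ∀ w ∈ LinearMap.range f, x w ∈ LinearMap.range f := by
      rintro _ ⟨v, rfl⟩
      exact ⟨x v, LinearMap.congr_fun (hc f hf x hx) v⟩
    have h1 := key _ (L.mul_mem hx hf) h0 (by rintro _ ⟨v, rfl⟩; exact hx' _ ⟨v, rfl⟩)
    have h2 : Function.Surjective (x.restrict hx') := fun ⟨y, hy⟩ => by
      obtain ⟨v, rfl⟩ := h1.ge hy
      exact ⟨⟨f v, v, rfl⟩, rfl⟩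
    exact congrArg Subtype.val ((injective_iff_map_eq_zero _).1
      (Finite.injective_iff_surjective.2 h2) ⟨w, hw⟩ (Subtype.ext e))
  have hff : f * f ≠ 0 := fun e => by
    obtain ⟨v, hv⟩ := DFunLike.ne_iff.1 hf0
    refine hf0 (hi.kill (P := {x | x ∈ L ∧ x * x = 0})
      (fun h x hx => ⟨hn h x hx.1, by rw [← map_mul, hx.2, map_zero]⟩) hv (fun x hx => ?_) f ⟨hf, e⟩)
    by_cases h0 : x * f = 0
    · exact LinearMap.congr_fun h0 v
    · exact inj x hx.1 h0 _ ⟨x v, LinearMap.congr_fun (hc f hf x hx.1) v⟩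
        (LinearMap.congr_fun hx.2 (f v))
  have inj2 : ∀ y z : End k V, LinearMap.range y ≤ LinearMap.range f →
      LinearMap.range z ≤ LinearMap.range f → f * y = f * z → y = z := fun y z hy hz e => by
    ext v
    refine sub_eq_zero.1 (inj f hf hff _ (sub_mem (hy ⟨v, rfl⟩) (hz ⟨v, rfl⟩)) ?_)
    rw [map_sub, sub_eq_zero]
    exact LinearMap.congr_fun e v
  obtain ⟨⟨e, he, her⟩, h1⟩ := Finite.surjective_of_injective
    (f := fun z : {z // z ∈ L ∧ LinearMap.range z ≤ LinearMap.range f} =>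
      (⟨f * z.1, L.mul_mem hf z.2.1, LinearMap.range_comp_le_range _ _⟩ :
        {z // z ∈ L ∧ LinearMap.range z ≤ LinearMap.range f}))
    (fun y z e => Subtype.ext (inj2 _ _ y.2.2 z.2.2 (congrArg Subtype.val e))) ⟨f, hf, le_rfl⟩
  replace h1 : f * e = f := congrArg Subtype.val h1
  have he0 : e ≠ 0 := fun h => hf0 (by rw [← h1, h, mul_zero])
  refine ⟨L, e, ⟨hi, hc, hn, fun S hS hSn hLS => ?_, he, inj2 _ _
    ((LinearMap.range_comp_le_range _ _).trans her) her (by rw [← mul_assoc, h1, h1]), he0,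
    fun x hx => ?_⟩, hL⟩
  · exact Algebra.subset_adjoin.trans (hm (y := Algebra.adjoin k S) (adj S hS hSn (hL.trans hLS))
      (hLS.trans Algebra.subset_adjoin))
  · by_cases h0 : x * f = 0
    · refine Or.inl (LinearMap.ext fun v => ?_)
      obtain ⟨w, hw⟩ := her ⟨v, rfl⟩
      rw [End.mul_apply, ← hw]
      exact LinearMap.congr_fun h0 w
    · exact Or.inr fun v => inj x hx h0 _ (her ⟨v, rfl⟩)

theorem exists_split [Finite k] [Finite H] [Finite V] {F : Subalgebra k (End k V)} (hF : IsField F)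
    (hn : ∀ h, ∀ x ∈ F, cj ρ h x ∈ F) {ζ : End k V} (hζ : ζ ∈ F) {p : ℕ} (hp : p.Prime)
    (h1 : ζ ≠ 1) (h2 : ζ ^ p = 1) : ∃ (X : Subgroup H) (o c : ℕ), finrank k F = o * c ∧
      (∀ g, g ∈ X ↔ cj ρ g ζ = ζ) ∧ X.index ≤ o ∧ (cen ρ F).relIndex X ≤ c ∧
      p < Nat.card k ^ o := by
  letI := hF.toField
  have : Finite (End k V) := Finite.of_injective _ DFunLike.coe_injective
  have := Fintype.ofFinite k
  letI : MulSemiringAction H F :=
    { smul h a := ⟨cj ρ h a.1, hn h a.1 a.2⟩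
      one_smul a := Subtype.ext (cj_one ρ a.1)
      mul_smul g h a := Subtype.ext (cj_cj ρ g h a.1).symm
      smul_zero h := Subtype.ext (map_zero (cj ρ h))
      smul_add h a b := Subtype.ext (map_add (cj ρ h) a.1 b.1)
      smul_one h := Subtype.ext (map_one (cj ρ h))
      smul_mul h a b := Subtype.ext (map_mul (cj ρ h) a.1 b.1) }
  haveI : SMulCommClass H k F := ⟨fun h c a => Subtype.ext (map_smul (cj ρ h) c a.1)⟩
  let f := MulSemiringAction.toAlgAut H k F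
  have hk : cen ρ F = f.ker := by
    ext h
    exact ⟨fun e => AlgEquiv.ext fun a => Subtype.ext (e a.1 a.2),
      fun e x hx => congrArg Subtype.val (AlgEquiv.congr_fun (MonoidHom.mem_ker.1 e) (⟨x, hx⟩ : F))⟩
  let S := MulAction.stabilizer (F ≃ₐ[k] F) (⟨ζ, hζ⟩ : F)
  refine ⟨S.comap f, S.index, ♯S, by rw [index_mul_card, IsGalois.card_aut_eq_finrank],
    fun g => Subtype.ext_iff, ?_, ?_, ?_⟩
  · rw [index_comap]
    exact (relIndex_le_of_le_right le_top (relIndex_pos _ _).ne').trans (relIndex_top_right _).le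
  · rw [hk, ← MonoidHom.comap_bot, relIndex_comap, relIndex_bot_left]
    exact card_le_of_le (map_comap_le _ _)
  · obtain ⟨j, j0, j1, hj⟩ := exists_pow_mem_of_index_ne_zero (H := S) index_ne_zero_of_finite
      (FiniteField.frobeniusAlgEquivOfAlgebraic k F)
    have h3 : (⟨ζ, hζ⟩ : F) ^ (Fintype.card k ^ j) = ⟨ζ, hζ⟩ := by
      have := MulAction.mem_stabilizer_iff.1 hj
      rwa [AlgEquiv.smul_def, AlgEquiv.coe_pow,
        FiniteField.coe_frobeniusAlgEquivOfAlgebraic_iterate] at this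
    have h4 : 1 < Fintype.card k ^ j := Nat.one_lt_pow j0.ne' Fintype.one_lt_card
    have := Fact.mk hp
    have h5 : orderOf (⟨ζ, hζ⟩ : F) = p :=
      orderOf_eq_prime (Subtype.ext h2) fun e => h1 (congrArg Subtype.val e)
    have h6 : (⟨ζ, hζ⟩ : F) ≠ 0 := fun e => by
      have := pow_orderOf_eq_one (⟨ζ, hζ⟩ : F)
      rw [h5, e, zero_pow hp.ne_zero] at this
      exact zero_ne_one this
    have h7 : p ∣ Fintype.card k ^ j - 1 := by
      rw [← h5, orderOf_dvd_iff_pow_eq_one]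
      refine mul_right_cancel₀ h6 ?_
      rw [← pow_succ, Nat.sub_add_cancel h4.le, h3, one_mul]
    have := Nat.le_of_dvd (by omega) h7
    have := Nat.pow_le_pow_right (Fintype.card_pos (α := k)) j1
    rw [Nat.card_eq_fintype_card]
    omega

theorem st2 [Finite k] [Finite H] [Group.IsSolvable H] [Finite V] [Nontrivial V]
    (inj : Function.Injective ρ) (hi : Irr ρ) {x : H} {p : ℕ} (hp : p.Prime) (hx : orderOf x = p)
    [hn : (zpowers x).Normal] : ∃ (B : Subgroup H) (o c n m τ ε σ u : ℕ), x ∈ B ∧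
      finrank k V = o * (c * n * m) ∧ p < Nat.card k ^ o ∧ 𝐂(B).index ≤ τ * (o * c ^ m) ∧
      B.index ≤ τ * (o * c ^ m) * σ ^ m ∧ τ ≤ 3 ^ (m - 1) ∧ ε ≤ n ∧ Sig ε σ u := by
  obtain ⟨L, e, h, hL⟩ := exists_blk' hi (S₀ := ρ '' zpowers x) (by
    rintro _ ⟨_, ⟨i, rfl⟩, rfl⟩ _ ⟨_, ⟨j, rfl⟩, rfl⟩
    rw [← map_mul, ← map_mul, zpow_mul_comm]) (by
    rintro g _ ⟨y, hy, rfl⟩
    exact ⟨_, hn.conj_mem y hy g, (cj_rho _ _ _).symm⟩)
  have := h.nontrivial
  have := Fintype.ofFinite (H ⧸ stab ρ e)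
  have hC := normal_cen h.inv
  have hB := normal_scal h.inv
  obtain ⟨A, hA⟩ := Hyp.exists_sym ⟨normal_cen h.fld_inv, normal_scal h.fld_inv, inferInstance,
    scal_le_cen h.fld_comm, cen_le_cent (kerR_inj _), isCyclic_scal (kerR_inj _) h.isField, h.hmax⟩
  obtain ⟨ε, hε, hs⟩ := hA.exists_sig
  have h2 : cen ρ L ≤ stab ρ e := fun g hg => hg e h.mem
  have h3 : zpowers x ≤ scal ρ L := fun y hy => hL ⟨y, hy, rfl⟩
  have h4 : zpowers x ≤ stab ρ e := h3.trans ((scal_le_cen h.comm).trans h2)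
  have h5 : zpowers x ⊓ h.pre ⊥ = ⊥ := by
    refine (eq_bot_or_eq_of_prime (by rwa [Nat.card_zpowers, hx]) inf_le_left).resolve_right
      fun e1 => hp.one_lt.ne' ?_
    rw [← hx, orderOf_eq_one_iff]
    refine inj (h.ext fun q => ?_)
    obtain ⟨h3, h4⟩ := h.mem_pre.1 (e1.ge (hn.conj_mem' x (mem_zpowers x) q.out)).2
    have h5 : rs e _ = rs e 1 :=
      ((QuotientGroup.eq_one_iff _).1 h4 : h.res _ = 1).trans (rs_one h.idem).symm
    rw [cj_out_mul, (rs_eq_iff' h.idem (stab_comm h3) (by simp)).1 h5, map_one, one_mul, one_mul]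
  let y : stab ρ e := ⟨x, h4 (mem_zpowers x)⟩
  obtain ⟨X, o, c, e1, e2, e3, e4, e5⟩ := exists_split h.isField h.fld_inv (ζ := kerR h.res y)
    ⟨_, h3 (mem_zpowers x), rfl⟩ hp (fun e => hp.one_lt.ne' (by
      rw [← hx, orderOf_eq_one_iff]
      exact mem_bot.1 (h5.le ⟨mem_zpowers x, h.mem_pre.2 ⟨y.2, (QuotientGroup.eq_one_iff _).2 e⟩⟩)))
    (by
      rw [← map_pow, ← QuotientGroup.mk_pow, show y ^ p = 1 from
        Subtype.ext (hx ▸ pow_orderOf_eq_one x), QuotientGroup.mk_one, map_one])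
  have h6 : ∀ g : stab ρ e, (g : h.BG) ∈ X ↔ (g : H) ∈ 𝐂(zpowers x) := fun g => by
    rw [e2, cj_rho, (kerR_inj _).eq_iff, cent_zpowers, mem_cent1_iff_conj]
    refine ⟨fun e => mul_inv_eq_one.1 (mem_bot.1 (h5.le ⟨(zpowers x).mul_mem (hn.conj_mem x (mem_zpowers x) g)
      ((zpowers x).inv_mem (mem_zpowers x)), h.mem_pre.2 ⟨(g * y * g⁻¹ * y⁻¹).2, mul_inv_eq_one.2 e⟩⟩)),
      fun e => congrArg QuotientGroup.mk (Subtype.ext e : g * y * g⁻¹ = y)⟩
  have h7 : cen ρ L ≤ (stab ρ e).normalCore ⊓ 𝐂(zpowers x) := le_inf (normal_le_normalCore.2 h2)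
    ((cen_le_cent inj).trans (centralizer_le h3))
  have h8 : (cen ρ L).index ≤ (stab ρ e).normalCore.index * (o * c ^ (stab ρ e).index) := by
    rw [← relIndex_mul_index h7, ← relIndex_mul_index inf_le_left, mul_comm, mul_comm _ (index _),
      mul_assoc]
    refine Nat.mul_le_mul_left _ (Nat.mul_le_mul ?_ ?_)
    · refine le_trans ?_ ((relIndex_le_of_le_right (H := h.pre X) (L := h.pre ⊤) (fun g hg =>
        h.mem_pre.2 ⟨normalCore_le _ hg, mem_top _⟩) (relIndex_pos _ _).ne').trans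
        ((h.relIndex_pre _ _).le.trans ((relIndex_top_right _).le.trans e3)))
      rw [← inf_relIndex_right (h.pre X)]
      refine relIndex_le_of_le_left (fun g (hg : g ∈ h.pre X ⊓ (stab ρ e).normalCore) =>
        ⟨hg.2, ?_⟩) (relIndex_pos _ _).ne'
      obtain ⟨h3, h4⟩ := h.mem_pre.1 hg.1
      exact (h6 ⟨g, h3⟩).1 h4
    · refine (h.step (X := (stab ρ e).normalCore ⊓ 𝐂(zpowers x)) (Z := cen ρ L) (X₁ := X)
        (X₂ := cen (kerR h.res) h.fld) (fun g hg => h.mem_pre.2 ⟨normalCore_le _ hg.1, (h6 _).2 hg.2⟩) fun g _ hg x hx => ?_).trans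
        (Nat.pow_le_pow_left e4 _)
      refine h.ext fun q => ?_
      obtain ⟨h3, h4⟩ := h.mem_pre.1 (hg q)
      have := congrArg (cj ρ q.out) (h.mem_cen.1 h4 _ (h.inv q.out⁻¹ x hx))
      simpa [map_mul, cj_cj, mul_assoc] using this
  refine ⟨scal ρ L, o, c, finrank h.fld (LinearMap.range e), (stab ρ e).index,
    (stab ρ e).normalCore.index, ε, _, _, h3 (mem_zpowers x), ?_, e5,
    (index_antitone (cen_le_cent inj)).trans h8, ?_, dixon _ H _ le_rfl,
    (Nat.pow_le_pow_iff_left two_ne_zero).1 (hε ▸ hA.relIndex_le_sq (kerR_inj _) h.isField), hs⟩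
  · letI := IsField.toField (R := h.fld) h.isField
    rw [h.finrank_eq, ← finrank_mul_finrank k h.fld, e1]; ring
  · rw [← relIndex_mul_index (scal_le_cen h.comm), mul_comm]
    refine Nat.mul_le_mul h8 (h.step (fun g hg => h.mem_pre.2
      ⟨h2 hg, h.mem_cen.2 fun x hx => by rw [hg x hx]⟩) fun g _ hg => ?_)
    show ρ g ∈ L
    rw [← mul_one (ρ g), ← h.sum_eq, Finset.mul_sum]
    refine L.sum_mem fun q _ => ?_
    obtain ⟨h3, h4⟩ := h.mem_pre.1 (hg q)
    obtain ⟨x, hx, h5⟩ := h.mem_scal.1 h4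
    rw [cj_out_mul, ← h5]
    exact h.inv _ _ (L.mul_mem hx h.mem)

theorem exists_irr {G : Type u} [Group G] [Finite G] {V : Subgroup G} (hV : Core.IsMinNormal V)
    {q : ℕ} [Fact q.Prime] (hE : IsElementaryAbelian q V) :
    ∃ (W : Type u) (_ : AddCommGroup W) (_ : Module (ZMod q) W) (_ : Finite W) (_ : Nontrivial W)
      (ρ : G →* End (ZMod q) W), ρ.ker = 𝐂(V) ∧ Irr (kerR ρ) ∧ ♯V = q ^ finrank (ZMod q) W := by
  have := hV.normal
  obtain ⟨W, _, _, _, ρ, ι, h⟩ := Mod.exists_isLin (ZMod q) hE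
  have : Finite W := Module.finite_of_finite (ZMod q)
  have hs : ∀ w, ∃ x ∈ V, ι x = w := fun w => by
    obtain ⟨x, hx⟩ := ((Nat.bijective_iff_injective_and_card (fun x : V => ι x)).2
      ⟨fun a b e => Subtype.ext (h.inj a.2 b.2 e), by
        rw [h.card_eq, natCard_eq_pow_finrank (K := ZMod q), Nat.card_zmod]⟩).2 w
    exact ⟨x, x.2, hx⟩
  refine ⟨W, _, _, this, h.nontrivial_iff.2 hV.ne_bot, ρ, h.ker_eq, fun S hS => ?_, h.card_eq⟩
  let U : Subgroup G :=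
    { carrier := {x | x ∈ V ∧ ι x ∈ S}
      mul_mem' := fun ha hb => ⟨V.mul_mem ha.1 hb.1, h.map_mul _ ha.1 _ hb.1 ▸ S.add_mem ha.2 hb.2⟩
      one_mem' := ⟨V.one_mem, h.map_one ▸ S.zero_mem⟩
      inv_mem' := fun ha => ⟨V.inv_mem ha.1, h.map_inv ha.1 ▸ S.neg_mem ha.2⟩ }
  refine (hV.eq_bot_or_eq U ⟨fun x hx g => ⟨hV.normal.conj_mem x hx.1 g,
    h.conj g x hx.1 ▸ hS (g : G ⧸ ρ.ker) _ hx.2⟩⟩ fun x hx => hx.1).imp
    (fun e => eq_bot_iff.2 fun w hw => ?_) fun e => eq_top_iff.2 fun w _ => ?_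
  · obtain ⟨x, hx, rfl⟩ := hs w
    rw [mem_bot.1 (e.le ⟨hx, hw⟩), h.map_one]; exact zero_mem _
  · obtain ⟨x, hx, rfl⟩ := hs w
    exact (e.ge hx).2

end Cfsg.Agent.SLG
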