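import Cfsg.Agent.Lib.SLG.Main
import Cfsg.Agent.Lib.SLG.ST2

/-!
Solvable groups with a non-normal subgroup of order `p` have at least `p / (3 log₂ p)` classes.
-/

set_option autoImplicit false

namespace Cfsg.Agent.SLG

open Subgroup Module Cfsg.Agent.OO
open scoped Pointwise commutatorElement

universe u

def Bd (p k : ℕ) : Prop := (p : ℝ) ≤ 3 * Real.logb 2 p * k

theorem le_logb {p j : ℕ} (h : 2 ^ j ≤ p) : (j : ℝ) ≤ Real.logb 2 p := by
  have : 0 < p := (Nat.pow_pos two_pos).trans_le h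
  rw [Real.le_logb_iff_rpow_le one_lt_two (by exact_mod_cast this), Real.rpow_natCast]
  exact_mod_cast h

theorem mono_log {p : ℕ} (hp : 4 ≤ p) {x : ℝ} (hx : Real.logb 2 p ≤ x) :
    p * x ≤ Real.logb 2 p * 2 ^ x := by
  have h1 : ((2 : ℕ) : ℝ) ≤ _ := le_logb (j := 2) hp
  have h0 : (0 : ℝ) < p := by exact_mod_cast (by omega : 0 < p)
  have h2 := Real.rpow_logb two_pos (by norm_num) h0
  generalize Real.logb 2 p = L at *
  obtain ⟨t, rfl⟩ : ∃ t, x = L + t := ⟨x - L, by ring⟩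
  have h3 := Real.add_one_le_exp (Real.log 2 * t)
  rw [← Real.rpow_def_of_pos two_pos] at h3
  have h4 := Real.log_two_gt_d9
  have h5 : 0 ≤ t := by linarith
  push_cast at h1
  rw [Real.rpow_add two_pos, h2, mul_left_comm]
  refine mul_le_mul_of_nonneg_left ?_ h0.le
  have h6 : t / 2 + 1 ≤ 2 ^ t := by nlinarith
  nlinarith

theorem bd1 {p k j : ℕ} (h1 : 2 ^ j ≤ p) (h2 : p ≤ 3 * j * k) : Bd p k := by
  have := le_logb h1
  have h3 : (p : ℝ) ≤ 3 * j * k := by exact_mod_cast h2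
  exact h3.trans (by gcongr)

theorem bd2 {p k o R : ℕ} (hp : 4 ≤ p) (h1 : p ≤ R) (h2 : 2 ^ o ≤ R) (h3 : R ≤ 3 * o * k) :
    Bd p k := by
  have h4 : (R : ℝ) ≤ 3 * o * k := by exact_mod_cast h3
  have h5 : (p : ℝ) ≤ R := by exact_mod_cast h1
  have h6 : ((2 : ℕ) : ℝ) ≤ _ := le_logb (j := 2) hp
  rcases le_total (o : ℝ) (Real.logb 2 p) with h | h
  · exact h5.trans (h4.trans (by gcongr))
  have h7 := mono_log hp h
  have h8 : (2 : ℝ) ^ (o : ℝ) ≤ R := by rw [Real.rpow_natCast]; exact_mod_cast h2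
  push_cast at h6
  refine le_of_mul_le_mul_right (h7.trans ?_) (show (0 : ℝ) < o by linarith)
  calc _ ≤ Real.logb 2 p * (3 * o * k) := by gcongr; exact h8.trans h4
    _ = _ := by ring

theorem bd3 {p k o : ℕ} (hp : 4 ≤ p) (h1 : p ≤ o * k) (h2 : 2 ^ o ≤ (o * k) ^ 2) : Bd p k := by
  have h5 : (p : ℝ) ≤ o * k := by exact_mod_cast h1
  have h6 : ((2 : ℕ) : ℝ) ≤ _ := le_logb (j := 2) hp
  push_cast at h6
  rcases le_total (o : ℝ) (3 * Real.logb 2 p) with h | h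
  · exact h5.trans (by gcongr)
  have h7 := mono_log hp (x := o / 2) (by linarith)
  have h8 : (2 : ℝ) ^ (o / 2 : ℝ) ≤ o * k := by
    refine (pow_le_pow_iff_left₀ (by positivity) (by positivity) two_ne_zero).1 ?_
    rw [← Real.rpow_natCast, ← Real.rpow_mul zero_le_two]
    norm_num
    exact_mod_cast h2
  have h9 : p * (o / 2 : ℝ) ≤ 3 * Real.logb 2 p * k * (o / 2) := h7.trans (by
    have : (0 : ℝ) ≤ Real.logb 2 p * (o * k) := by positivity
    nlinarith [mul_le_mul_of_nonneg_left h8 (show 0 ≤ Real.logb 2 p by linarith)])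
  exact le_of_mul_le_mul_right h9 (by linarith)

theorem num2 {R o c n m τ ε σ u D η b ν k : ℕ} (hR : 4096 ≤ R) (h2 : 2 ≤ c * n * m)
    (hτ : τ ≤ 3 ^ (m - 1)) (hε : ε ≤ n) (hs : Sig ε σ u) (hD : D ≤ τ * (o * c ^ m))
    (hη : η ≤ τ * (o * c ^ m) * σ ^ m) (hP : R ^ (c * n * m) ≤ D * η * (b * ν) + 1)
    (hk : b + ν ≤ k) : R ≤ 3 * o * k := by
  have hσ := hs.le_Sb hε
  have hX : D * η ≤ o ^ 2 * (τ ^ 2 * (c ^ 2 * σ) ^ m) :=
    (Nat.mul_le_mul hD hη).trans (le_of_eq (by ring))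
  have hm : 1 ≤ m := Nat.pos_of_ne_zero (by rintro rfl; omega)
  have hτ2 : τ ^ 2 ≤ 9 ^ (m - 1) := (Nat.pow_le_pow_left hτ 2).trans (by rw [pow_right_comm]; rfl)
  have hR2 : 4096 ^ 2 ≤ R ^ 2 := Nat.pow_le_pow_left hR 2
  have key : τ ^ 2 * (c ^ 2 * σ) ^ m * R ^ 2 ≤ 35 * R ^ (c * n * m) := by
    have c1 : c ^ 2 * σ * R ^ 2 ≤ 35 * R ^ (c * n) →
        τ ^ 2 * (c ^ 2 * σ) ^ m * R ^ 2 ≤ 35 * R ^ (c * n * m) := fun h => by
      obtain ⟨m, rfl⟩ := Nat.exists_eq_add_of_le' hm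
      have h3 : 9 * (c ^ 2 * σ) ≤ R ^ (c * n) := by nlinarith [Nat.mul_le_mul_left (c ^ 2 * σ) hR2]
      calc _ ≤ 9 ^ m * (c ^ 2 * σ) ^ (m + 1) * R ^ 2 :=
            Nat.mul_le_mul_right _ (Nat.mul_le_mul_right _ hτ2)
        _ = (9 * (c ^ 2 * σ)) ^ m * (c ^ 2 * σ * R ^ 2) := by rw [mul_pow 9]; ring
        _ ≤ (R ^ (c * n)) ^ m * (35 * R ^ (c * n)) := by gcongr
        _ = _ := by ring
    have hc : 1 ≤ c := Nat.pos_of_ne_zero (by rintro rfl; omega)
    have hn : 1 ≤ n := Nat.pos_of_ne_zero (by rintro rfl; omega)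
    rcases hc.eq_or_lt with rfl | hc
    · rcases hn.eq_or_lt with rfl | hn
      · have : σ ≤ 1 := hσ
        obtain ⟨m, rfl⟩ := Nat.exists_eq_add_of_le' (show 2 ≤ m by omega)
        have h3 : 9 ^ m ≤ R ^ m := by gcongr; omega
        calc _ ≤ 9 ^ (m + 1) * (1 ^ 2 * 1) ^ (m + 2) * R ^ 2 :=
              Nat.mul_le_mul_right _ (Nat.mul_le_mul hτ2 (by gcongr))
          _ = 9 * 9 ^ m * R ^ 2 := by ring
          _ ≤ 35 * R ^ m * R ^ 2 := by gcongr; norm_num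
          _ = _ := by ring
      · obtain ⟨n, rfl⟩ := Nat.exists_eq_add_of_le' hn
        have h3 : σ ≤ 24 * R ^ n := hσ.trans (by
          rcases lt_or_ge n 3 with h | h
          · interval_cases n <;> simp only [Sb] <;> norm_num <;> omega
          · exact (Sb_le h).trans (by gcongr <;> omega))
        refine c1 ?_
        calc _ ≤ 1 ^ 2 * (35 * R ^ n) * R ^ 2 := by gcongr; omega
          _ = _ := by ring
    · obtain ⟨n, rfl⟩ := Nat.exists_eq_add_of_le' hn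
      obtain ⟨a, rfl⟩ := Nat.exists_eq_add_of_le' hc
      have h3 : (a + 2) ^ 2 ≤ 4 * 11 ^ a := by
        clear * -
        induction a with
        | zero => norm_num
        | succ a ih =>
          have : (a + 1 + 2) ^ 2 ≤ 11 * (a + 2) ^ 2 := by ring_nf; omega
          rw [pow_succ 11]; omega
      refine c1 ?_
      calc _ ≤ 4 * R ^ a * R ^ n * R ^ 2 := by
            gcongr
            · exact h3.trans (by gcongr; omega)
            · exact hσ.trans ((Sb_le' n).trans (by rw [pow_mul]; gcongr; omega))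
        _ = 4 * R ^ (a + n + 2) := by ring
        _ ≤ _ := Nat.mul_le_mul (by norm_num) (Nat.pow_le_pow_right (by omega) (by nlinarith))
  by_contra! h
  have h3 : 4 * (b * ν) ≤ k ^ 2 := by nlinarith [sq_nonneg ((b : ℤ) - ν), Nat.mul_le_mul hk hk]
  have h4 : 36 * (o ^ 2 * (b * ν)) ≤ R ^ 2 := by
    nlinarith [Nat.mul_le_mul_left (o ^ 2) h3, Nat.pow_le_pow_left h.le 2]
  have h5 := hR2.trans (Nat.pow_le_pow_right (by omega) h2)
  nlinarith [Nat.mul_le_mul_right (b * ν) hX, Nat.mul_le_mul_left (τ ^ 2 * (c ^ 2 * σ) ^ m) h4]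

theorem bd_small {p k : ℕ} (h11 : 2 ≤ p) (h : p < 4096) (h16 : 4 * p ≤ k ^ 2 + 4) : Bd p k := by
  have h12 := Nat.lt_pow_succ_log_self one_lt_two p
  have h13 := Nat.pow_log_le_self 2 (show p ≠ 0 by omega)
  refine bd1 h13 ?_
  generalize Nat.log 2 p = j at *
  have h14 : j < 12 := (Nat.pow_lt_pow_iff_right one_lt_two).1 (h13.trans_lt h)
  have h15 : p + 2 ≤ 36 * j ^ 2 := by interval_cases j <;> omega
  refine (Nat.pow_le_pow_iff_left two_ne_zero).1 ?_
  obtain ⟨p, rfl⟩ := Nat.exists_eq_add_of_le' (show 1 ≤ p by omega)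
  nlinarith [Nat.mul_le_mul_left (9 * j ^ 2) (show 4 * p ≤ k ^ 2 by omega),
    Nat.mul_le_mul_right p h15]

theorem bd_large {p q o c n m τ ε σ u D η b ν k : ℕ} (hp : 4096 ≤ p) (hq : 2 ≤ q) (e3 : p < q ^ o)
    (h0 : c * n * m ≠ 0) (e6 : τ ≤ 3 ^ (m - 1)) (e7 : ε ≤ n) (e8 : Sig ε σ u)
    (e4 : D ≤ τ * (o * c ^ m)) (e5 : η ≤ τ * (o * c ^ m) * σ ^ m)
    (h9 : (q ^ o) ^ (c * n * m) ≤ D * η * (b * ν) + 1) (h11 : b + ν ≤ k) (h16 : p ≤ D * b) :
    Bd p k := by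
  have h10 : 2 ^ o ≤ q ^ o := Nat.pow_le_pow_left hq o
  rcases lt_or_ge (c * n * m) 2 with h12 | h12
  swap
  · exact bd2 (by omega) e3.le h10 (num2 (by omega) h12 e6 e7 e8 e4 e5 h9 h11)
  obtain ⟨h14, rfl⟩ := mul_eq_one.1 (show c * n * m = 1 by omega)
  obtain ⟨rfl, rfl⟩ := mul_eq_one.1 h14
  have h15 : σ ≤ 1 := e8.le_Sb e7
  simp only [one_pow, mul_one, pow_one, tsub_self, pow_zero] at *
  have h17 : D ≤ o := e4.trans (by nlinarith)
  have h18 : η ≤ o := e5.trans (by nlinarith [Nat.mul_le_mul e6 h15])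
  refine bd3 (o := o) (by omega) (h16.trans (Nat.mul_le_mul h17 (by omega))) (h10.trans ?_)
  have h19 : 4 * (b * ν) ≤ k ^ 2 := by nlinarith [sq_nonneg ((b : ℤ) - ν), Nat.mul_le_mul h11 h11]
  have h20 := Nat.mul_le_mul (Nat.mul_le_mul h17 h18) h19
  nlinarith

variable {G : Type u} [Group G] [Finite G]

theorem k_cyc (P : Subgroup G) [P.Normal] [IsCyclic P] :
    4 * ♯P ≤ Nat.card (ConjClasses G) ^ 2 + 4 := by
  have h6 : der ⊤ ≤ 𝐂(P) := Coprime.commutator_le_centralizer_of_isCyclic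
    inferInstance le_normalizer_of_normal le_normalizer_of_normal
  have h7 : 𝐂(P).index ≤ Nat.card (ConjClasses (G ⧸ 𝐂(P))) :=
    Nat.card_le_card_of_injective ConjClasses.mk fun a b e => by
      obtain ⟨c, rfl⟩ := isConj_iff.1 (ConjClasses.mk_eq_mk_iff_isConj.1 e)
      obtain ⟨a, rfl⟩ := QuotientGroup.mk'_surjective _ a
      obtain ⟨c, rfl⟩ := QuotientGroup.mk'_surjective _ c
      exact (mem_cent1_iff_conj.1 (mk_comm_iff.2 (h6 (commutator_mem_commutator (mem_top _)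
        (mem_top _))))).symm
  have h8 := add_nu_le (QuotientGroup.mk'_surjective 𝐂(P)) (N := P)
    ((Ab.le_cent (inferInstance : IsMulCommutative P)).trans (QuotientGroup.ker_mk' _).ge)
  have h9 := card_le_nu' P
  have h10 : 𝐂(P).index + nu P ≤ Nat.card (ConjClasses G) := by omega
  nlinarith [sq_nonneg ((𝐂(P).index : ℤ) - nu P), Nat.mul_le_mul h10 h10]

theorem nu_lt (B : Subgroup G) : nu B + 1 ≤ Nat.card (ConjClasses G) := by
  have h6 := add_nu_le (QuotientGroup.mk'_surjective ⊤) (N := B)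
    (le_top.trans (QuotientGroup.ker_mk' _).ge)
  have h7 : 0 < Nat.card (ConjClasses (G ⧸ (⊤ : Subgroup G))) := Nat.card_pos
  omega

theorem ml3 [Group.IsSolvable G] {V : Subgroup G} (hV : Core.IsMinNormal V) {x : G} {p : ℕ}
    (hp : p.Prime) (hx : orderOf x = p) (h1 : x ∉ 𝐂(V))
    (h2 : ∀ g, ∃ y ∈ zpowers x, y⁻¹ * (g * x * g⁻¹) ∈ V) : Bd p (Nat.card (ConjClasses G)) := by
  obtain ⟨q, hq, hE⟩ := hV.exists_isElementaryAbelian inferInstance
  have := Fact.mk hq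
  have := Fact.mk hp
  obtain ⟨W, _, _, _, _, ρ, hk, hi, hc⟩ := exists_irr hV hE
  have hVk : V ≤ (QuotientGroup.mk' ρ.ker).ker := by
    rw [QuotientGroup.ker_mk', hk]; exact Ab.le_cent (hV.isMulCommutative inferInstance)
  have h3 := add_nu_le (QuotientGroup.mk'_surjective ρ.ker) hVk
  have h4 := card_le_nu' V
  rw [← hk] at h1 h4
  have h5 : orderOf (x : G ⧸ ρ.ker) = p := orderOf_eq_prime
    (by rw [← QuotientGroup.mk_pow, ← hx, pow_orderOf_eq_one, QuotientGroup.mk_one])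
    (mt (QuotientGroup.eq_one_iff _).1 h1)
  have hn : (zpowers (x : G ⧸ ρ.ker)).Normal := ⟨by
    rintro _ ⟨i, rfl⟩ g
    obtain ⟨g, rfl⟩ := QuotientGroup.mk_surjective g
    obtain ⟨_, ⟨j, rfl⟩, hy⟩ := h2 g
    have : (g : G ⧸ ρ.ker) * x * (g : G ⧸ ρ.ker)⁻¹ = x ^ j :=
      (inv_mul_eq_one.1 (MonoidHom.mem_ker.1 (hVk hy))).symm
    rw [← conj_zpow, this]
    exact zpow_mem (zpow_mem (mem_zpowers _) _) _⟩
  have hP : ♯(zpowers (x : G ⧸ ρ.ker)) = p := by rw [Nat.card_zpowers, h5]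
  rcases lt_or_ge p 4096 with h | h
  · exact bd_small hp.two_le h ((hP ▸ k_cyc _).trans (Nat.add_le_add_right
      (Nat.pow_le_pow_left (le_self_add.trans h3) 2) 4))
  obtain ⟨B, o, c, n, m, τ, ε, σ, u, e1, e2, e3, e4, e5, e6, e7, e8⟩ := st2 (kerR_inj ρ) hi hp h5
  rw [Nat.card_zmod] at e3
  rw [e2, pow_mul] at hc
  have h8 : ♯B ≤ 𝐂(B).index * (nu B + 1) := (card_le_nu' B).trans (by
    have : 𝐂(B).index ≠ 0 := index_ne_zero_of_finite
    rw [mul_add]; omega)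
  refine bd_large (b := nu B + 1) (ν := nu V) h hq.two_le e3 (fun e => ?_) e6 e7 e8 e4 e5 ?_
    ((Nat.add_le_add_right (nu_lt B) _).trans h3)
    ((Nat.le_of_dvd Nat.card_pos (hP ▸ card_dvd (zpowers_le.2 e1))).trans h8)
  · rw [e, pow_zero] at hc
    exact (one_lt_card hV.ne_bot).ne' hc
  · rw [← hc]
    refine h4.trans (Nat.succ_le_succ ?_)
    calc _ = B.index * ♯B * nu V := by rw [B.index_mul_card]; rfl
      _ ≤ B.index * (𝐂(B).index * (nu B + 1)) * nu V := by gcongr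
      _ = _ := by ring

theorem fit_main {p : ℕ} [hp : Fact p.Prime] (t : ℕ) : ∀ (G : Type u) [Group G] [Finite G]
    [Group.IsSolvable G], Nat.card G ≤ t → ¬ p ^ 2 ∣ Nat.card G → ∀ x : G, x ^ p = 1 →
    ¬ (zpowers x).Normal → Bd p (Nat.card (ConjClasses G)) := by
  induction t with
  | zero => exact fun G _ _ _ h => absurd h Nat.card_pos.not_ge
  | succ t ih =>
    intro G _ _ _ ht hd x hx hn
    have h1 : x ≠ 1 := by rintro rfl; exact hn (by rw [zpowers_one_eq_bot]; infer_instance)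
    have := nontrivial_of_ne x 1 h1
    have ho := orderOf_eq_prime hx h1
    obtain ⟨V, hV⟩ := Core.exists_isMinNormal (G := G)
    have := hV.normal
    by_cases h2 : (zpowers (x : G ⧸ V)).Normal
    swap
    · have h3 := V.card_mul_index
      have h4 : (Nat.card (ConjClasses (G ⧸ V)) : ℝ) ≤ Nat.card (ConjClasses G) := by
        exact_mod_cast le_self_add.trans (add_nu_le (QuotientGroup.mk'_surjective V) bot_le)
      have h5 : ((1 : ℕ) : ℝ) ≤ _ := le_logb (p := p) (j := 1) hp.out.two_le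
      refine (ih (G ⧸ V) (by
        have := one_lt_card hV.ne_bot
        have : V.index ≠ 0 := index_ne_zero_of_finite
        show V.index ≤ t
        nlinarith [Nat.pos_of_ne_zero this]) (fun h => hd (h.trans V.index_dvd_card)) x
        (by rw [← QuotientGroup.mk_pow, hx, QuotientGroup.mk_one]) h2).trans ?_
      push_cast at h5
      gcongr
    have h3 : ∀ g, ∃ y ∈ zpowers x, y⁻¹ * (g * x * g⁻¹) ∈ V := fun g => by
      obtain ⟨i, hi⟩ := h2.conj_mem _ (mem_zpowers _) g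
      exact ⟨x ^ i, ⟨i, rfl⟩, QuotientGroup.eq.1 hi⟩
    refine ml3 hV hp.out ho (fun h4 => hn ⟨?_⟩) h3
    rintro _ ⟨i, rfl⟩ g
    rw [← conj_zpow]
    refine zpow_mem ?_ i
    by_contra h5
    obtain ⟨y, hy, h6⟩ := h3 g
    have h7 : x ∈ 𝐂[g * x * g⁻¹] := by
      rw [← mul_inv_cancel_left y (g * x * g⁻¹), mem_cent1]
      obtain ⟨j, rfl⟩ := hy
      exact ((Commute.refl x).zpow_right j).mul_right (h4 _ h6).symm
    have h8 : ♯(zpowers (g * x * g⁻¹)) = p := by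
      rw [Nat.card_zpowers, ← ho]; exact (MulAut.conj g).orderOf_eq x
    have h9 := card_sup_of_inf_eq_bot (A := zpowers x) (B := zpowers (g * x * g⁻¹))
      (Or.inl ((zpowers_le.2 (by rwa [cent_zpowers])).trans (cent_le_norm _)))
      ((eq_bot_or_eq_of_prime (h8 ▸ hp.out) inf_le_right).resolve_right fun e =>
        h5 (e.ge (mem_zpowers _)).1)
    rw [h8, Nat.card_zpowers, ho, ← sq] at h9
    exact hd (h9 ▸ card_subgroup_dvd_card _)

end Cfsg.Agent.SLG
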