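import Cfsg.Agent.Lib.SLG.Prim

/-!
Linear groups normalizing a field of endomorphisms.
-/

set_option autoImplicit false

namespace Cfsg.Agent.SLG

open Subgroup Module Cfsg.Agent.OO
open scoped Pointwise commutatorElement

universe u

theorem li_of_chars {F E Γ ι : Type*} [Field F] [AddCommGroup E] [Module F E] [Monoid Γ]
    {χ : ι → Γ →* F} (hχ : Function.Injective χ) (T : Γ → E →ₗ[F] E) {x : ι → E}
    (h0 : ∀ i, x i ≠ 0) (h : ∀ g i, T g (x i) = χ i g • x i) : LinearIndependent F x := by
  rw [linearIndependent_iff']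
  intro s c hc i hi
  obtain ⟨φ, hφ⟩ := not_forall.1 (mt (forall_dual_apply_eq_zero_iff F (x i)).1 (h0 i))
  refine (mul_eq_zero.1 (linearIndependent_iff'.1 ((linearIndependent_monoidHom Γ F).comp χ hχ) s
    (fun j => c j * φ (x j)) (funext fun g => ?_) i hi)).resolve_right hφ
  have := congrArg (fun v => φ (T g v)) hc
  simp only [map_sum, map_smul, h, map_zero, smul_eq_mul] at this
  simp only [Finset.sum_apply, Pi.smul_apply, Function.comp, smul_eq_mul, Pi.zero_apply]
  rw [← this]
  exact Finset.sum_congr rfl fun j _ => by ring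

variable {k : Type*} {H : Type u} {V : Type*} [Field k] [Group H] [AddCommGroup V] [Module k V]
  (ρ : H →* End k V)

/-- conjugation on the endomorphism algebra -/
def cj (h : H) : End k V →ₐ[k] End k V where
  toFun x := ρ h * x * ρ h⁻¹
  map_one' := by simp [← map_mul]
  map_mul' x y := by
    simp only [mul_assoc]
    rw [← mul_assoc (ρ h⁻¹), ← map_mul, inv_mul_cancel, map_one, one_mul]
  map_zero' := by simp
  map_add' x y := by rw [mul_add, add_mul]
  commutes' c := by
    rw [← Algebra.commutes, mul_assoc, ← map_mul, mul_inv_cancel, map_one, mul_one]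

theorem cj_apply (h : H) (x : End k V) : cj ρ h x = ρ h * x * ρ h⁻¹ := rfl

theorem cj_cj (g h : H) (x : End k V) : cj ρ g (cj ρ h x) = cj ρ (g * h) x := by
  simp [cj_apply, mul_assoc]

@[simp] theorem cj_one (x : End k V) : cj ρ 1 x = x := by simp [cj_apply]

theorem cj_rho (g h : H) : cj ρ g (ρ h) = ρ (g * h * g⁻¹) := by simp [cj_apply]

theorem cj_mul_rho (h : H) (x : End k V) : cj ρ h x * ρ h = ρ h * x := by
  rw [cj_apply, mul_assoc, ← map_mul, inv_mul_cancel, map_one, mul_one]

theorem cj_eq_iff {h : H} {x : End k V} : cj ρ h x = x ↔ ρ h * x = x * ρ h :=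
  ⟨fun e => by rw [← cj_mul_rho, e], fun e => by
    rw [cj_apply, e, mul_assoc, ← map_mul, mul_inv_cancel, map_one, mul_one]⟩

theorem cj_inj (h : H) : Function.Injective (cj ρ h) := fun x y e => by
  simpa [cj_cj] using congrArg (cj ρ h⁻¹) e

/-- elements acting as elements of a subalgebra -/
def scal [Finite H] (F : Subalgebra k (End k V)) : Subgroup H where
  carrier := {g | ρ g ∈ F}
  mul_mem' ha hb := by simpa using F.mul_mem ha hb
  one_mem' := by simpa using F.one_mem
  inv_mem' {g} hg := by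
    obtain ⟨n, hn⟩ := (mem_powers_iff_mem_zpowers.2 (inv_mem (mem_zpowers g)) : g⁻¹ ∈ _)
    rw [← hn]
    simpa using F.pow_mem hg n

/-- elements centralizing a subalgebra -/
def cen (F : Subalgebra k (End k V)) : Subgroup H where
  carrier := {g | ∀ x ∈ F, cj ρ g x = x}
  mul_mem' ha hb x hx := by rw [← cj_cj, hb x hx, ha x hx]
  one_mem' x _ := cj_one ρ x
  inv_mem' {g} hg x hx := cj_inj ρ g (by rw [cj_cj, mul_inv_cancel, cj_one, hg x hx])

variable {ρ} {F : Subalgebra k (End k V)}

theorem normal_cen (hn : ∀ h, ∀ x ∈ F, cj ρ h x ∈ F) : (cen ρ F).Normal :=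
  ⟨fun g hg h x hx => by
    rw [← cj_cj, ← cj_cj, hg _ (hn _ x hx), cj_cj, mul_inv_cancel, cj_one]⟩

variable [Finite H]

theorem normal_scal (hn : ∀ h, ∀ x ∈ F, cj ρ h x ∈ F) : (scal ρ F).Normal :=
  ⟨fun g hg h => show ρ _ ∈ F from cj_rho ρ h g ▸ hn h _ hg⟩

theorem scal_le_cen (hc : ∀ a ∈ F, ∀ b ∈ F, a * b = b * a) : scal ρ F ≤ cen ρ F :=
  fun _ hg x hx => (cj_eq_iff ρ).2 (hc _ hg x hx)

theorem cen_le_cent (inj : Function.Injective ρ) : cen ρ F ≤ 𝐂(scal ρ F) :=
  fun g hg x hx => inj (by rw [map_mul, map_mul, (cj_eq_iff ρ).1 (hg _ hx)])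

variable [Finite V]

omit [Finite H] in
theorem index_cen_le (hF : IsField F) (hn : ∀ h, ∀ x ∈ F, cj ρ h x ∈ F) :
    (cen ρ F).index ≤ finrank k F := by
  letI := hF.toField
  have : Finite (End k V) := Finite.of_injective _ DFunLike.coe_injective
  letI : MulSemiringAction H F :=
    { smul h a := ⟨cj ρ h a.1, hn h a.1 a.2⟩
      one_smul a := Subtype.ext (cj_one ρ a.1)
      mul_smul g h a := Subtype.ext (cj_cj ρ g h a.1).symm
      smul_zero h := Subtype.ext (map_zero (cj ρ h))
      smul_add h a b := Subtype.ext (map_add (cj ρ h) a.1 b.1)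
      smul_one h := Subtype.ext (map_one (cj ρ h))
      smul_mul h a b := Subtype.ext (map_mul (cj ρ h) a.1 b.1) }
  haveI : SMulCommClass H k F := ⟨fun h c a => Subtype.ext (map_smul (cj ρ h) c a.1)⟩
  have : cen ρ F = (MulSemiringAction.toAlgAut H k F).ker := by
    ext h
    exact ⟨fun e => AlgEquiv.ext fun a => Subtype.ext (e a.1 a.2),
      fun e x hx => congrArg Subtype.val (AlgEquiv.congr_fun (MonoidHom.mem_ker.1 e) (⟨x, hx⟩ : F))⟩
  rw [this, index_ker, ← IsGalois.card_aut_eq_finrank]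
  exact card_le_card_group _

theorem isCyclic_scal (inj : Function.Injective ρ) (hF : IsField F) : IsCyclic (scal ρ F) := by
  letI := hF.toField
  exact isCyclic_of_injective_ringHom
    ((ρ.comp (scal ρ F).subtype).codRestrict F fun b => b.2)
    fun a b e => Subtype.ext (inj (congrArg Subtype.val e))

theorem card_scal_dvd (inj : Function.Injective ρ) (hF : IsField F) :
    ♯(scal ρ F) ∣ Nat.card k ^ finrank k F - 1 := by
  letI := hF.toField
  have : Finite (End k V) := Finite.of_injective _ DFunLike.coe_injective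
  rw [← natCard_eq_pow_finrank, ← Nat.card_units]
  exact card_dvd_of_injective ((ρ.comp (scal ρ F).subtype).codRestrict F fun b => b.2).toHomUnits
    fun a b e => Subtype.ext (inj (congrArg (fun x : Fˣ => (x : End k V)) e))

theorem Sym.relIndex_le_sq [Nontrivial V] {A : Subgroup H} (inj : Function.Injective ρ)
    (hF : IsField F) (h : Sym (cen ρ F) (scal ρ F) A) :
    (scal ρ F).relIndex A ≤ finrank F V ^ 2 := by
  letI := hF.toField
  have := Fintype.ofFinite (A ⧸ (scal ρ F).subgroupOf A)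
  let φ : A →* End F V :=
    { toFun g :=
        { toFun := ρ g
          map_add' := map_add _
          map_smul' := fun (x : F) v =>
            LinearMap.congr_fun ((cj_eq_iff ρ).1 (h.le2 g.2 x.1 x.2)) v }
      map_one' := LinearMap.ext fun v => LinearMap.congr_fun (map_one ρ) v
      map_mul' a b := LinearMap.ext fun v => LinearMap.congr_fun (map_mul ρ (a : H) (b : H)) v }
  have hm : ∀ g a : A, ⁅(g : H), (a : H)⁆ ∈ scal ρ F := fun g a =>
    h.comm (commutator_mem_commutator g.2 a.2)
  let χ : A → A →* F := fun a =>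
    { toFun g := ⟨ρ ⁅(g : H), (a : H)⁆, hm g a⟩
      map_one' := Subtype.ext (by simp)
      map_mul' g g' := by
        rw [mul_comm (G := F)]
        refine Subtype.ext ((congrArg ρ (PGrp.commutatorElement_mul_left_of_commute ?_)).trans
          (map_mul _ _ _))
        exact h.cen (h.le2 g.2) _ (hm g' a) }
  have li := li_of_chars (χ := fun q : A ⧸ (scal ρ F).subgroupOf A => χ q.out) (fun q q' e => ?_)
    (fun g => (LinearMap.mulLeft F (φ g)).comp (LinearMap.mulRight F (φ g⁻¹)))
    (x := fun q => φ q.out) (fun q => (Group.isUnit q.out |>.map φ).ne_zero) fun g q => ?_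
  · have := li.fintype_card_le_finrank
    rwa [finrank_linearMap, ← sq, ← Nat.card_eq_fintype_card] at this
  · rw [← q.out_eq, ← q'.out_eq]
    refine QuotientGroup.eq.2 (h.zc ⟨(q.out⁻¹ * q'.out).2, fun g hg => ?_⟩)
    have : ⁅g⁻¹, (q.out : H)⁆ = ⁅g⁻¹, (q'.out : H)⁆ :=
      inj (congrArg Subtype.val (DFunLike.congr_fun e ⟨g⁻¹, inv_mem hg⟩))
    calc g * ((q.out : H)⁻¹ * q'.out) = (q.out : H)⁻¹ * g * ⁅g⁻¹, (q.out : H)⁆ * q'.out := by group
      _ = (q.out : H)⁻¹ * q'.out * g := by rw [this]; group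
  · refine LinearMap.ext fun v => ?_
    show ρ g (ρ q.out (ρ g⁻¹ v)) = ρ ⁅(g : H), (q.out : H)⁆ (ρ q.out v)
    simp only [← End.mul_apply, ← map_mul]
    congr 2; group

end Cfsg.Agent.SLG
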