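import Cfsg.Agent.Lib.SLG.Cls

/-!
The class number of a central extension of a subgroup of `S₄` containing the four-group.
-/

set_option autoImplicit false

namespace Cfsg.Agent.SLG

open Subgroup Cfsg.Agent.OO
open scoped Pointwise commutatorElement

universe u

variable {G : Type u} [Group G] [Finite G] {C U A : Subgroup G}

theorem sum_card_cent [Fintype G] : ∑ x : G, ♯𝐂[x] = Nat.card (ConjClasses G) * Nat.card G := by
  rw [← card_comm_eq_card_conjClasses_mul_card, ← Nat.card_sigma]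
  exact Nat.card_congr ⟨fun x => ⟨(x.2, x.1), mem_cent1.1 x.2.2⟩, fun x => ⟨x.1.2, x.1.1,
    mem_cent1.2 x.2⟩, fun _ => rfl, fun _ => rfl⟩

theorem Sym.sq_mem (h : Sym C U A) (e : U.relIndex A = 4) {a : G} (ha : a ∈ A) : a ^ 2 ∈ U := by
  have := h.nU
  by_cases hc : A ≤ 𝐂[a]
  · exact U.pow_mem (h.zc ⟨ha, le_cent1_iff.1 hc⟩) 2
  have hU : U ≤ A ⊓ 𝐂[a] := le_inf h.le1 (le_cent1_iff.2 (h.cen (h.le2 ha)))
  have h1 := relIndex_mul_relIndex _ _ _ hU inf_le_left
  have h2 : (A ⊓ 𝐂[a]).relIndex A ≠ 1 := fun e => hc ((relIndex_eq_one.1 e).trans inf_le_right)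
  have h3 : U.relIndex (A ⊓ 𝐂[a]) ∣ 2 := by
    rw [e] at h1
    have := Nat.le_of_dvd four_pos (Dvd.intro _ h1)
    generalize U.relIndex (A ⊓ 𝐂[a]) = x at *
    interval_cases x <;> omega
  rw [← card_map_mk] at h3
  rw [← QuotientGroup.eq_one_iff, ← QuotientGroup.mk'_apply, map_pow, ← orderOf_dvd_iff_pow_eq_one]
  exact (OO.orderOf_dvd_card (mem_map_of_mem _ (mem_inf.2 ⟨ha, mem_cent1_self a⟩))).trans h3

omit [Finite G] in
theorem order_pair {A : Subgroup G} [hA : A.Normal] {x a : G} (hx : x ∉ A) (ha : a ∈ A)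
    (ha2 : a ^ 2 = 1) (hc : x ∉ 𝐂[a]) (h0 : orderOf x ≠ 0) (h0' : orderOf (x * a) ≠ 0) :
    6 ≤ orderOf x + orderOf (x * a) := by
  have h1 : (x * a) ^ 2 = x ^ 2 * (x⁻¹ * a * x * a) := by simp only [sq]; group
  have h2 : x⁻¹ * a * x * a ∈ A := A.mul_mem (hA.conj_mem' a ha x) ha
  have hy : x * a ∉ A := fun h => hx ((A.mul_mem_cancel_right ha).1 h)
  have k1 : ∀ y, y ∉ A → orderOf y ≠ 1 := fun y hy e => hy (orderOf_eq_one_iff.1 e ▸ one_mem _)
  have k2 : ∀ y : G, orderOf y = 2 → y ^ 2 = 1 := fun y e => e ▸ pow_orderOf_eq_one y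
  have k3 : ∀ y, y ∉ A → y ^ 2 ∈ A → orderOf y ≠ 3 := fun y hy h2 e => hy (by
    have := pow_orderOf_eq_one y
    rw [e, pow_succ] at this
    exact (A.mul_mem_cancel_left h2).1 (this ▸ one_mem _))
  have := k1 x hx
  have := k1 _ hy
  by_cases hx2 : x ^ 2 ∈ A
  · have := k3 x hx hx2
    have := k3 _ hy (h1 ▸ A.mul_mem hx2 h2)
    have : ¬ (orderOf x = 2 ∧ orderOf (x * a) = 2) := fun ⟨e1, e2⟩ => hc (mem_cent1.2 (by
      rw [k2 _ e1, k2 _ e2, one_mul] at h1
      calc x * a = x * (x⁻¹ * a * x * a) * a := by rw [← h1, mul_one]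
        _ = a * x * a ^ 2 := by simp only [sq]; group
        _ = _ := by rw [ha2, mul_one]))
    omega
  · have : orderOf x ≠ 2 := fun e => hx2 (k2 x e ▸ one_mem _)
    have : orderOf (x * a) ≠ 2 := fun e => hx2 ((A.mul_mem_cancel_right h2).1
      (h1 ▸ k2 _ e ▸ one_mem _))
    omega

theorem Sym.special (h : Sym ⊤ U A) (e : U.relIndex A = 4) :
    9 * A.index * ♯U ≤ 2 * A.index * Nat.card (ConjClasses G) + 6 * ♯U := by
  classical
  have := Fintype.ofFinite G
  have := h.nU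
  have := h.nA
  set π := QuotientGroup.mk' U
  have hz : ∀ x, U ≤ 𝐂[x] := fun x => le_cent1_iff.2 (h.cen (mem_top x))
  have hA : ♯A = ♯U * 4 := by rw [← card_mul_relIndex h.le1, e]
  have hG : Nat.card G = A.index * (♯U * 4) := by rw [← hA, index_mul_card]
  have h1 : ∀ x, ♯U * orderOf (π x) ≤ ♯𝐂[x] := fun x => by
    rw [← card_mul_relIndex (hz x), ← Nat.card_zpowers, ← MonoidHom.map_zpowers, card_map_mk]
    exact Nat.mul_le_mul_left _ (relIndex_le_of_le_right (zpowers_le.2 (mem_cent1_self x))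
      (relIndex_pos _ _).ne')
  have h2 : ∀ x ∈ A, x ∉ U → Nat.card G ≤ 6 * ♯𝐂[x] := fun x hx hxU => by
    rw [← 𝐂[x].index_mul_card]
    refine Nat.mul_le_mul_right _ ?_
    rw [← relIndex_mul_index (show 𝐂[x] ≤ 𝐂[π x].comap π from fun c hc =>
      mem_cent1.2 (by rw [← map_mul, mem_cent1.1 hc, map_mul])),
      index_comap_of_surjective _ (QuotientGroup.mk'_surjective U), ← relIndex_top_right]
    refine (Nat.mul_le_mul ?_ ?_ : _ ≤ 2 * 3)
    · refine (relIndex_cent1_le (S := (fun w : U => w * x) '' {w | w ^ 2 = 1}) fun c hc =>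
        ⟨⟨_, mk_comm_iff.1 hc⟩, Subtype.ext ?_, by simp [commutatorElement_def]⟩).trans
        ((Set.ncard_image_le).trans ?_)
      · refine (PGrp.commutatorElement_pow_right_of_commute
          (h.cen (mem_top x) _ (mk_comm_iff.1 hc)) 2).symm.trans ?_
        exact commutatorElement_eq_one_iff_mul_comm.2 (h.cen (mem_top c) _ (h.sq_mem e hx)).symm
      · have := h.cyc
        rw [Set.ncard_eq_toFinset_card', Set.toFinset_setOf]
        exact IsCyclic.card_pow_eq_one_le two_pos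
    · refine (relIndex_cent1_le (S := (A.map π : Set _) \ {1}) fun c _ => ⟨(h.nA.map _
        (QuotientGroup.mk'_surjective U)).conj_mem _ (mem_map_of_mem _ hx) c, fun e => hxU
        ((QuotientGroup.eq_one_iff _).1 (show π x = 1 by simpa using e))⟩).trans ?_
      rw [Set.ncard_sdiff_singleton_of_mem (one_mem _)]
      exact Nat.sub_le_sub_right ((card_map_mk A).trans e).le 1
  have h3 : ∀ q : G ⧸ A, ∃ a ∈ A, ∀ x : G, (x : G ⧸ A) = q → x ∉ A → π x ∉ 𝐂[π a] := fun q => by
    by_cases hq : q.out ∈ A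
    · refine ⟨1, one_mem _, fun x hx hxA => absurd ?_ hxA⟩
      rw [← QuotientGroup.out_eq' q, (QuotientGroup.eq_one_iff _).2 hq] at hx
      exact (QuotientGroup.eq_one_iff _).1 hx
    obtain ⟨a, ha, h4⟩ : ∃ a ∈ A, ⁅q.out, a⁆ ∉ U := by
      by_contra! hh
      exact hq (h.faith _ (mem_top _) hh)
    refine ⟨a, ha, fun x hx _ h5 => h4 (mk_comm_iff.1 ?_)⟩
    rw [← QuotientGroup.out_eq' q, QuotientGroup.eq] at hx
    have := mul_mem h5 (mk_comm_iff.2 (h.comm (commutator_mem_commutator hx ha)))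
    rwa [← map_mul, mul_inv_cancel_left] at this
  choose f hf hf' using h3
  have hφ : ∀ x : G, ((x * f x : G) : G ⧸ A) = x := fun x => QuotientGroup.mk_mul_of_mem x (hf _)
  have h4 : ∑ x ∈ Finset.univ.filter (· ∉ A), ♯𝐂[x * f x] =
      ∑ x ∈ Finset.univ.filter (· ∉ A), ♯𝐂[x] :=
    Finset.sum_nbij' (fun x => x * f x) (fun x => x * (f x)⁻¹)
      (fun x hx => by simpa [A.mul_mem_cancel_right (hf _)] using hx)
      (fun x hx => by simpa [A.mul_mem_cancel_right (inv_mem (hf _))] using hx)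
      (fun x _ => by rw [hφ, mul_inv_cancel_right])
      (fun x _ => by rw [QuotientGroup.mk_mul_of_mem x (inv_mem (hf _)), inv_mul_cancel_right])
      fun _ _ => rfl
  have hc : ∀ X : Subgroup G, (Finset.univ.filter (· ∈ X)).card = ♯X := fun X => by
    rw [Nat.card_eq_fintype_card, Fintype.card_subtype]
  have s1 : (Finset.univ.filter (· ∉ A)).card • (♯U * 6) ≤
      ∑ x ∈ Finset.univ.filter (· ∉ A), (♯𝐂[x] + ♯𝐂[x * f x]) :=
    Finset.card_nsmul_le_sum _ _ _ fun x hx => by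
      have hx : x ∉ A := (Finset.mem_filter.1 hx).2
      have := order_pair (A := A.map π) (hA := h.nA.map _ (QuotientGroup.mk'_surjective U))
        (x := π x) (a := π (f x)) (fun hh => hx (by
          have : x ∈ (A.map π).comap π := hh
          rwa [comap_map_eq, QuotientGroup.ker_mk', sup_eq_left.2 h.le1] at this))
        (mem_map_of_mem _ (hf _)) (by
          rw [← map_pow]; exact (QuotientGroup.eq_one_iff _).2 (h.sq_mem e (hf _)))
        (hf' _ x rfl hx) (orderOf_pos _).ne' (orderOf_pos _).ne'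
      rw [← map_mul] at this
      exact (Nat.mul_le_mul_left _ this).trans ((mul_add _ _ _).le.trans (add_le_add (h1 _) (h1 _)))
  have s2 : ((Finset.univ.filter (· ∈ A)).filter (· ∉ U)).card • Nat.card G ≤
      ∑ x ∈ (Finset.univ.filter (· ∈ A)).filter (· ∉ U), 6 * ♯𝐂[x] :=
    Finset.card_nsmul_le_sum _ _ _ fun x hx => h2 x (by simp_all) (by simp_all)
  have e3 : (Finset.univ.filter (· ∈ A)).filter (· ∈ U) = Finset.univ.filter (· ∈ U) := by
    ext x; simpa using fun hx => h.le1 hx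
  have s3 : ∑ x ∈ (Finset.univ.filter (· ∈ A)).filter (· ∈ U), ♯𝐂[x] = ♯U * Nat.card G := by
    rw [e3, ← hc, ← smul_eq_mul, ← Finset.sum_const]
    refine Finset.sum_congr rfl fun x hx => ?_
    rw [eq_top_iff.2 (le_cent1_iff.2 (le_cent_symm h.cen (by simpa using hx))), card_top]
  have c1 := Finset.card_filter_add_card_filter_not (s := Finset.univ) (· ∈ A)
  have c2 := Finset.card_filter_add_card_filter_not (s := Finset.univ.filter (· ∈ A)) (· ∈ U)
  have t := sum_card_cent (G := G)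
  rw [← Finset.sum_filter_add_sum_filter_not _ (· ∈ A),
    ← Finset.sum_filter_add_sum_filter_not _ (· ∈ U), s3] at t
  rw [Finset.sum_add_distrib, h4, smul_eq_mul] at s1
  rw [← Finset.mul_sum, smul_eq_mul] at s2
  rw [hc, Finset.card_univ, ← Nat.card_eq_fintype_card, hA] at c1
  rw [e3, hc, hc, hA] at c2
  have hu := card_pos' U
  refine Nat.le_of_mul_le_mul_right ?_ (show 0 < ♯U * 4 * 6 by omega)
  rw [hG] at *
  rw [show ((Finset.univ.filter (· ∈ A)).filter (· ∉ U)).card = ♯U * 3 by omega] at s2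
  have := congrArg (· * ♯U) c1
  nlinarith

end Cfsg.Agent.SLG
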