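import Cfsg.Agent.Lib.SLG.Num
import Cfsg.Agent.Lib.SLG.Spec
import Cfsg.Agent.Lib.Coprime.TIHall

/-!
Solvable groups of order divisible by `p²` have at least `49 p / 60` conjugacy classes.
-/

set_option autoImplicit false

namespace Cfsg.Agent.SLG

open Subgroup Cfsg.Agent.OO
open scoped Pointwise commutatorElement

universe u

variable {G : Type u} [Group G] [Finite G]

theorem card_le_nu' (V : Subgroup G) : ♯V ≤ 𝐂(V).index * nu V + 1 :=
  card_le_nu fun _ hx => index_antitone (cent_le_cent1 hx)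

theorem ml [Group.IsSolvable G] {V : Subgroup G} (hV : Core.IsMinNormal V) {p : ℕ}
    [hp : Fact p.Prime] (hE : IsElementaryAbelian p V) (h2 : p ^ 2 ≤ ♯V) :
    49 * p ≤ 60 * Nat.card (ConjClasses G) := by
  obtain ⟨H, K, _, _, _, _, π, N, B, C, C', U', A', a, n, h⟩ := exists_data hV hE
  have h1 := add_nu_le h.surj (N := V) (h.ker ▸ Ab.le_cent (hV.isMulCommutative inferInstance))
  have hP := card_le_nu' V
  rw [h.index_eq] at hP
  rcases lt_or_ge p 11 with h11 | h11
  · obtain ⟨l1, l2, l3, l4, -⟩ := landau H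
    have : 0 < Nat.card (ConjClasses H) := Nat.card_pos
    have h3 := h2.trans hP
    have hp := hp.out
    by_contra! hh
    have : nu V ≤ 8 := by omega
    generalize nu V = ν at *
    interval_cases p <;> first | (norm_num at hp; done) | (interval_cases ν <;> omega)
  have := h.solK
  have := h.solH
  have := h.nB
  obtain ⟨ε, hε, hs⟩ := h.sym.exists_sig
  have hτ := dixon _ H N le_rfl
  by_cases hsp : N.index = 1 ∧ a = 1 ∧ n = 2 ∧ ε = 2
  · obtain ⟨hN, rfl, rfl, rfl⟩ := hsp
    obtain rfl : C' = ⊤ := index_eq_one.1 (le_antisymm h.idx (Nat.pos_of_ne_zero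
      index_ne_zero_of_finite))
    obtain ⟨f, hf⟩ := h.onto hN
    have h3 := add_nu_le hf (N := ⊥) bot_le
    have h4 : U'.relIndex ⊤ ≤ 24 := hs.le_Sb le_rfl
    have h5 := h.index_B
    have h6 := h.h3
    have h7 := relIndex_mul_index h.sym.le1
    rw [hN, pow_one, relIndex_top_right, ← h7, hε] at h5
    rw [relIndex_top_right, ← h7, hε] at h4
    rw [hN] at hτ h6
    have h8 : Nat.card H ≤ 4 * A'.index * ♯U' := by
      rw [← B.index_mul_card]
      exact Nat.mul_le_mul (h5.trans ((Nat.mul_le_mul_right _ hτ).trans (by omega))) (by simpa using h6)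
    have := num_special h11 (by omega) (by simpa using h.dvd) (h.sym.special hε)
      (h2.trans (hP.trans (Nat.succ_le_succ (Nat.mul_le_mul_right _ h8))))
    omega
  obtain ⟨c, c1, c2, c3⟩ := h.inv
  have h3 := add_nu_le (QuotientGroup.mk'_surjective B) (QuotientGroup.ker_mk' B).ge
  have h4 : ♯B ≤ C.index * (nu B + 1) := (card_le_nu (t := C.index) fun x hx =>
    index_antitone (h.cent.trans (cent_le_cent1 hx))).trans (by
      have : C.index ≠ 0 := index_ne_zero_of_finite
      rw [mul_add]; omega)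
  obtain ⟨-, -, -, l4, l5⟩ := landau (H ⧸ B)
  have := num (b := nu B + 1) hp.out h11 (h.pos hV.ne_bot).1 (h.pos hV.ne_bot).2
    (Nat.pos_of_ne_zero index_ne_zero_of_finite)
    ((Nat.pow_le_pow_iff_right hp.out.one_lt).1 (h.card ▸ h2)) hτ (index_normalCore_le N)
    ((Nat.pow_le_pow_iff_left two_ne_zero).1 (hε ▸ h.sq)) hs h.index_C h.index_B (le_nu c1 c2 c3)
    (by
      rw [← h.card]
      refine hP.trans (Nat.succ_le_succ ?_)
      rw [← B.index_mul_card]
      nlinarith [Nat.mul_le_mul_left (B.index * nu V) h4]) Nat.card_pos l4 l5 hsp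
  omega

theorem ml2 {N P : Subgroup G} [N.Normal] [P.Normal] {p : ℕ} [hp : Fact p.Prime] (hN : ♯N = p)
    (hP : ♯P = p ^ 2) (hle : N ≤ P) (h3 : ¬ p ∣ P.index) :
    49 * p ≤ 60 * Nat.card (ConjClasses G) := by
  have hab : P ≤ 𝐂(P) := Ab.le_cent (IsPGroup.isMulCommutative_of_card_eq_prime_sq hP)
  have h1 : der ⊤ ≤ 𝐂(N) := Coprime.commutator_le_centralizer_of_isCyclic
    (isCyclic_of_prime_card hN) le_normalizer_of_normal le_normalizer_of_normal
  have := Normal.map ‹P.Normal› _ (QuotientGroup.mk'_surjective N)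
  have h2 : der ⊤ ≤ 𝐂(P.map (QuotientGroup.mk' N)) := Coprime.commutator_le_centralizer_of_isCyclic
    (isCyclic_of_prime_card (p := p) (by
      have := card_mul_relIndex hle
      rw [hN, hP, sq] at this
      rw [card_map_mk, Nat.eq_of_mul_eq_mul_left hp.out.pos this]))
    le_normalizer_of_normal le_normalizer_of_normal
  have h4 : der ⊤ ≤ 𝐂(P) := fun x hx => by
    have h5 : x ^ p ∈ 𝐂(P) := fun y hy => by
      have h6 : ⁅x, y⁆ ∈ N := mk_comm_iff.1 (cent_le_cent1 (mem_map_of_mem _ hy) (h2 (by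
        rw [← map_top_of_surjective _ (QuotientGroup.mk'_surjective N), ← map_der]
        exact mem_map_of_mem _ hx)))
      refine (commutatorElement_eq_one_iff_mul_comm.1 ?_).symm
      rw [PGrp.commutatorElement_pow_left_of_commute (h1 hx _ h6), ← orderOf_dvd_iff_pow_eq_one, ← hN]
      exact OO.orderOf_dvd_card h6
    rw [← QuotientGroup.eq_one_iff, ← orderOf_eq_one_iff]
    refine Nat.eq_one_of_dvd_coprimes ((Nat.Prime.coprime_iff_not_dvd hp.out).2 h3) ?_
      ((_root_.orderOf_dvd_natCard _).trans (index_dvd_of_le hab))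
    rw [orderOf_dvd_iff_pow_eq_one, ← QuotientGroup.mk_pow, QuotientGroup.eq_one_iff]
    exact h5
  have h5 : 𝐂(P).index ≤ Nat.card (ConjClasses (G ⧸ 𝐂(P))) :=
    Nat.card_le_card_of_injective ConjClasses.mk fun a b e => by
      obtain ⟨c, rfl⟩ := isConj_iff.1 (ConjClasses.mk_eq_mk_iff_isConj.1 e)
      obtain ⟨a, rfl⟩ := QuotientGroup.mk'_surjective _ a
      obtain ⟨c, rfl⟩ := QuotientGroup.mk'_surjective _ c
      exact (mem_cent1_iff_conj.1 (mk_comm_iff.2 (h4 (commutator_mem_commutator (mem_top _)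
        (mem_top _))))).symm
  have h6 := add_nu_le (QuotientGroup.mk'_surjective 𝐂(P)) (N := P)
    (hab.trans (QuotientGroup.ker_mk' _).ge)
  have h7 := card_le_nu' P
  rw [hP] at h7
  by_contra! h
  have h8 : 60 * (𝐂(P).index + nu P) ≤ 49 * p := by omega
  nlinarith [sq_nonneg ((𝐂(P).index : ℤ) - nu P), Nat.mul_le_mul h8 h8, hp.out.two_le]

theorem main {p : ℕ} [hp : Fact p.Prime] (t : ℕ) : ∀ (G : Type u) [Group G] [Finite G]
    [Group.IsSolvable G], Nat.card G ≤ t → p ^ 2 ∣ Nat.card G →
    49 * p ≤ 60 * Nat.card (ConjClasses G) := by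
  induction t with
  | zero => exact fun G _ _ _ h => absurd h Nat.card_pos.not_ge
  | succ t ih =>
    intro G _ _ _ ht hd
    by_contra hh
    have k1 : ∀ N : Subgroup G, Core.IsMinNormal N → ♯N = p ∧ ¬ p ^ 2 ∣ N.index := fun N hN => by
      have := hN.normal
      have h1 := N.card_mul_index
      have h2 : ¬ p ^ 2 ∣ N.index := fun h => hh ((ih (G ⧸ N) (by
        have := one_lt_card hN.ne_bot
        have : N.index ≠ 0 := index_ne_zero_of_finite
        show N.index ≤ t
        nlinarith [Nat.pos_of_ne_zero this]) h).trans (Nat.mul_le_mul_left _ (le_self_add.trans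
          (add_nu_le (QuotientGroup.mk'_surjective N) bot_le))))
      have h3 : p ∣ ♯N := by
        by_contra h
        exact h2 ((((Nat.Prime.coprime_iff_not_dvd hp.out).2 h).pow_left 2).dvd_of_dvd_mul_left
          (h1 ▸ hd))
      have hE := hN.isElementaryAbelian_of_dvd inferInstance h3
      obtain ⟨j, hj⟩ := (Core.isPGroup_of_isElementaryAbelian hE).exists_card_eq
      refine ⟨?_, h2⟩
      match j, hj with
      | 0, hj => exact absurd (card_eq_one_iff.1 hj) hN.ne_bot
      | 1, hj => simpa using hj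
      | j + 2, hj => exact absurd (ml hN hE (hj ▸ Nat.pow_le_pow_right hp.out.pos (by omega))) hh
    have : Nontrivial G := Finite.one_lt_card_iff_nontrivial.1
      ((Nat.one_lt_pow two_ne_zero hp.out.one_lt).trans_le (Nat.le_of_dvd Nat.card_pos hd))
    obtain ⟨N, hN⟩ := Core.exists_isMinNormal (G := G)
    have := hN.normal
    obtain ⟨h1, h2⟩ := k1 N hN
    have h0 : pPrimeCore p G = ⊥ := by
      by_contra h
      obtain ⟨M, hM, hle⟩ := Core.exists_isMinNormal_le h
      exact hp.out.one_lt.ne' (Nat.eq_one_of_dvd_coprimes (Core.coprime_card_pPrimeCore p)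
        ((k1 M hM).1 ▸ card_dvd hle) dvd_rfl)
    have hc := Core.centralizer_pCore_le h0
    have hle : N ≤ pCore p G := Core.le_pCore (isPGroup_of_card_prime_pow (n := 1) (by simpa))
    obtain ⟨j, hj⟩ := (Core.isPGroup_pCore (G := G) p).exists_card_eq
    have h3 : ¬ p ^ 3 ∣ Nat.card G := fun h => h2 (by
      rwa [← N.card_mul_index, h1, pow_succ', Nat.mul_dvd_mul_iff_left hp.out.pos] at h)
    have h4 := (pCore p G).card_mul_index
    match j, hj with
    | 0, hj => exact hN.ne_bot (le_bot_iff.1 (card_eq_one_iff.1 hj ▸ hle))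
    | 1, hj =>
      obtain ⟨x, hx, hx1⟩ := exists_mem_ne_one hN.ne_bot
      have h5 : zpowers x = N := (eq_bot_or_eq_of_prime (h1 ▸ hp.out) (zpowers_le.2 hx)).resolve_left
        (zpowers_ne_bot.2 hx1)
      have h6 : N = pCore p G := eq_of_le_of_card_le hle (by simp [hj, h1])
      have h7 := relIndex_cent1_le (X := ⊤) (S := (N : Set G) \ {1}) fun c _ =>
        ⟨this.conj_mem x hx c, fun e => hx1 (by simpa using e)⟩
      rw [Set.ncard_sdiff_singleton_of_mem (one_mem _), relIndex_top_right, ← cent_zpowers, h5] at h7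
      have h8 : p ∣ 𝐂(N).index := by
        rw [← h6] at hc
        have := hd.trans (𝐂(N).card_mul_index ▸ Nat.mul_dvd_mul_right (card_dvd hc) _)
        rwa [h1, sq, Nat.mul_dvd_mul_iff_left hp.out.pos] at this
      have := Nat.le_of_dvd (Nat.pos_of_ne_zero index_ne_zero_of_finite) h8
      have : (N : Set G).ncard = p := h1
      have := hp.out.pos
      omega
    | 2, hj => exact hh (ml2 h1 hj hle fun h => h3 (by
        rw [← h4, hj, pow_succ _ 2]; exact Nat.mul_dvd_mul_left _ h))
    | j + 3, hj => exact h3 ((pow_dvd_pow p (by omega)).trans (hj ▸ card_subgroup_dvd_card _))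

end Cfsg.Agent.SLG
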