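import Cfsg.Agent.Lib.SLG.PW

/-!
Numerical estimates for the class number bound `49 p / 60`.
-/

set_option autoImplicit false

namespace Cfsg.Agent.SLG

def tb (m : ℕ) : ℕ := if m ≤ 4 then m.factorial else 3 ^ (m - 1)

def Sb (n : ℕ) : ℕ :=
  if n ≤ 1 then 1 else if n = 2 then 24 else if n = 3 then 216 else if n ≤ 5 then 3276 else n ^ 7 / 5

def mx (s m : ℕ) : ℕ := if s ≤ 2 * m then (s - m) * m else s * s / 4

theorem le_mx {b ν s m : ℕ} (h : b + ν ≤ s) (hm : m ≤ ν) : b * ν ≤ mx s m := by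
  unfold mx
  split_ifs with h1
  · obtain ⟨t, rfl⟩ := Nat.exists_eq_add_of_le hm
    obtain ⟨r, rfl⟩ := Nat.exists_eq_add_of_le h
    rw [show b + (m + t) + r - m = b + t + r by omega]
    nlinarith [Nat.mul_le_mul_left t (show b ≤ m by omega)]
  · refine (Nat.le_div_iff_mul_le four_pos).2 ?_
    nlinarith [sq_nonneg ((b : ℤ) - ν), Nat.mul_le_mul h h]

theorem Sig.le_Sb {ε σ u n : ℕ} (h : Sig ε σ u) (hn : ε ≤ n) : σ ≤ Sb n := by
  have h6 : 6 ≤ n → 3276 ≤ n ^ 7 / 5 := fun h => (Nat.le_div_iff_mul_le (by norm_num)).2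
    (le_trans (by norm_num) (Nat.pow_le_pow_left h 7))
  have h7 := Nat.pow_le_pow_left hn 7
  unfold Sb
  rcases h with ⟨rfl, rfl⟩ | ⟨h2, -, h3, h4⟩
  · split_ifs <;> omega
  rcases lt_or_ge ε 6 with h | h
  · interval_cases ε
    · have : σ ≤ 24 := h4 Nat.prime_two
      split_ifs <;> omega
    · have : σ ≤ 216 := h4 Nat.prime_three
      split_ifs <;> omega
    · split_ifs <;> omega
    · have : σ ≤ 3000 := h4 Nat.prime_five
      split_ifs <;> omega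
  · split_ifs <;> omega

theorem Sb_le {n : ℕ} (h : 3 ≤ n) : Sb (n + 2) ≤ 5 * 11 ^ n := by
  rcases h.eq_or_lt with rfl | h
  · decide
  have : (n + 2) ^ 7 ≤ 25 * 11 ^ n := by
    induction n, h using Nat.le_induction with
    | base => norm_num
    | succ n h ih =>
      have : (6 * (n + 1 + 2)) ^ 7 ≤ (7 * (n + 2)) ^ 7 := Nat.pow_le_pow_left (by omega) _
      rw [mul_pow, mul_pow] at this
      rw [pow_succ 11]
      omega
  unfold Sb
  split_ifs <;> omega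

theorem Sb_le' (n : ℕ) : Sb (n + 1) ≤ 11 ^ (2 * n) := by
  rcases lt_or_ge n 4 with h | h
  · interval_cases n <;> decide
  obtain ⟨k, rfl⟩ := Nat.exists_eq_add_of_le' (show 1 ≤ n by omega)
  refine (Sb_le (by omega)).trans (le_trans ?_ (Nat.pow_le_pow_right (by norm_num)
    (show k + 1 ≤ _ by omega)))
  rw [pow_succ]; omega

theorem amgm {p X b ν P : ℕ} (hP : 121 ≤ P) (h1 : P ≤ X * (b * ν) + 1) (h2 : X * p ^ 2 ≤ 5 * P) :
    49 * p ≤ 60 * (b + ν) := by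
  by_contra! h
  have h3 : 14400 * (b * ν) ≤ 2401 * p ^ 2 := by
    nlinarith [sq_nonneg ((b : ℤ) - ν), Nat.mul_le_mul h.le h.le]
  nlinarith [Nat.mul_le_mul_left X h3]

theorem cond {τ w q p X m j : ℕ} (hτ : τ ≤ 3 ^ (j + m)) (hX : X ≤ τ ^ 2 * w ^ (j + 1 + m))
    (h1 : 9 * w ≤ q) (h2 : 9 ^ j * w ^ (j + 1) * p ^ 2 ≤ 5 * q ^ (j + 1)) :
    X * p ^ 2 ≤ 5 * q ^ (j + 1 + m) :=
  calc _ ≤ (3 ^ (j + m)) ^ 2 * w ^ (j + 1 + m) * p ^ 2 :=
        Nat.mul_le_mul_right _ (hX.trans (by gcongr))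
    _ = 9 ^ j * w ^ (j + 1) * p ^ 2 * (9 * w) ^ m := by
        rw [pow_right_comm, show 3 ^ 2 = 9 from rfl]; ring
    _ ≤ 5 * q ^ (j + 1) * q ^ m := by gcongr
    _ = _ := by ring

def Chk (n p m : ℕ) : Prop := 2 ≤ n → 11 ≤ p → p % 2 = 1 → p ≠ 15 → 1 ≤ m → ¬ (n = 2 ∧ m = 1) →
    tb m * min (tb m * Sb n ^ m) 42 * mx ((49 * p - 1) / 60) m + 1 < p ^ (n * m) ∧
    tb m * min (tb m * Sb n ^ m) 1806 * mx ((49 * p - 1) / 60 - 4) m + 1 < p ^ (n * m) ∧
    tb m * (tb m * Sb n ^ m) * mx ((49 * p - 1) / 60 - 5) m + 1 < p ^ (n * m)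

instance decChk (n p m : ℕ) : Decidable (Chk n p m) := by unfold Chk; infer_instance

theorem small : ∀ n < 5, ∀ p < 44, ∀ m < 36, Chk n p m := by decide +kernel

theorem num {p a n m ε σ u τ D η b ν κ : ℕ} (hp : p.Prime) (h11 : 11 ≤ p) (ha : 1 ≤ a) (hn : 1 ≤ n)
    (hm : 1 ≤ m) (h2 : 2 ≤ a * n * m) (hτ : τ ≤ 3 ^ (m - 1)) (hτ' : τ ≤ m.factorial) (hε : ε ≤ n)
    (hs : Sig ε σ u) (hD : D ≤ τ * a ^ m) (hη : η ≤ τ * (a * σ) ^ m) (hν : m ≤ ν)
    (hP : p ^ (a * n * m) ≤ D * η * (b * ν) + 1) (k1 : 1 ≤ κ) (k4 : κ ≤ 4 → η ≤ 42)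
    (k5 : κ ≤ 5 → η ≤ 1806) (hsp : ¬ (m = 1 ∧ a = 1 ∧ n = 2 ∧ ε = 2)) :
    49 * p + 60 ≤ 60 * (b + ν + κ) := by
  have hσ := hs.le_Sb hε
  have hX : D * η ≤ τ ^ 2 * (a ^ 2 * σ) ^ m := (Nat.mul_le_mul hD hη).trans (le_of_eq (by ring))
  have h121 : 121 ≤ p ^ 2 := Nat.pow_le_pow_left h11 2
  have key : D * η * p ^ 2 ≤ 5 * p ^ (a * n * m) → 49 * p + 60 ≤ 60 * (b + ν + κ) := fun h => by
    have := amgm (h121.trans (Nat.pow_le_pow_right (by omega) h2)) hP h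
    omega
  have c1 : a ^ 2 * σ * p ^ 2 ≤ 5 * p ^ (a * n) → 49 * p + 60 ≤ 60 * (b + ν + κ) := fun h => by
    obtain ⟨m, rfl⟩ := Nat.exists_eq_add_of_le hm
    rw [pow_mul] at key
    exact key (cond (j := 0) (by simpa using hτ) hX
      (by nlinarith [Nat.mul_le_mul_left (a ^ 2 * σ) h121]) (by simpa using h))
  rcases ha.eq_or_lt with rfl | ha2
  swap
  · obtain ⟨n, rfl⟩ := Nat.exists_eq_add_of_le' hn
    obtain ⟨a, rfl⟩ := Nat.exists_eq_add_of_le' ha2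
    have h3 : (a + 2) ^ 2 ≤ 4 * 11 ^ a := by
      clear * -
      induction a with
      | zero => norm_num
      | succ a ih =>
        have : (a + 1 + 2) ^ 2 ≤ 11 * (a + 2) ^ 2 := by ring_nf; omega
        rw [pow_succ 11]; omega
    refine c1 ?_
    calc _ ≤ 4 * p ^ a * p ^ (2 * n) * p ^ 2 := by
          gcongr
          · exact h3.trans (by gcongr)
          · exact hσ.trans ((Sb_le' n).trans (by gcongr))
      _ = 4 * p ^ (a + 2 * n + 2) := by ring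
      _ ≤ _ := Nat.mul_le_mul (by norm_num) (Nat.pow_le_pow_right (by omega) (by nlinarith))
  simp only [one_mul, one_pow, mul_one] at *
  rcases lt_or_ge n 5 with h5 | h5
  swap
  · obtain ⟨n, rfl⟩ := Nat.exists_eq_add_of_le' (show 2 ≤ n by omega)
    refine c1 ?_
    calc _ ≤ 5 * p ^ n * p ^ 2 := by
          gcongr
          exact hσ.trans ((Sb_le (by omega)).trans (by gcongr))
      _ = _ := by ring
  rcases hn.eq_or_lt with rfl | hn2
  · have : σ ≤ 1 := hσ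
    have h3 : D * η ≤ τ ^ 2 := hX.trans ((Nat.mul_le_mul_left _ (Nat.pow_le_pow_left this m)).trans
      (by simp))
    obtain ⟨m, rfl⟩ := Nat.exists_eq_add_of_le' (show 2 ≤ m by omega)
    refine key ?_
    rw [one_mul, pow_add, ← mul_assoc]
    refine Nat.mul_le_mul_right _ (h3.trans (le_trans ?_ (Nat.mul_le_mul_left _
      (Nat.pow_le_pow_left h11 m))))
    rcases lt_or_ge m 3 with h | h
    · interval_cases m <;> exact (Nat.pow_le_pow_left hτ' 2).trans (by decide)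
    · obtain ⟨m, rfl⟩ := Nat.exists_eq_add_of_le' h
      refine (Nat.pow_le_pow_left hτ 2).trans ?_
      have : 9 ^ m ≤ 11 ^ m := by gcongr; norm_num
      rw [pow_right_comm, show m + 3 + 2 - 1 = m + 4 from rfl, pow_add, pow_add]
      norm_num
      omega
  rcases hs with ⟨rfl, rfl⟩ | ⟨e2, -⟩
  · have : p ^ 2 ≤ p ^ n := Nat.pow_le_pow_right hp.pos hn2
    exact c1 (by omega)
  have h3 : ¬ (n = 2 ∧ m = 1) := fun h => hsp ⟨h.2, trivial, h.1, by omega⟩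
  rcases lt_or_ge p 44 with h | h
  · by_contra! hh
    obtain ⟨s1, s2, s3⟩ := small n h5 p h m (by omega) hn2 h11
      (hp.eq_two_or_odd.resolve_left (by omega)) (by rintro rfl; norm_num at hp) hm h3
    have h4 : τ ≤ tb m := by unfold tb; split_ifs <;> assumption
    have h6 : η ≤ tb m * Sb n ^ m := hη.trans (by gcongr)
    rcases le_or_gt κ 4 with h7 | h7
    · exact (hP.trans (Nat.succ_le_succ (Nat.mul_le_mul (Nat.mul_le_mul (hD.trans h4)
        (le_min h6 (k4 h7))) (le_mx (by omega) hν)))).not_gt s1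
    rcases le_or_gt κ 5 with h7 | h7
    · exact (hP.trans (Nat.succ_le_succ (Nat.mul_le_mul (Nat.mul_le_mul (hD.trans h4)
        (le_min h6 (k5 h7))) (le_mx (by omega) hν)))).not_gt s2
    · exact (hP.trans (Nat.succ_le_succ (Nat.mul_le_mul (Nat.mul_le_mul (hD.trans h4) h6)
        (le_mx (by omega) hν)))).not_gt s3
  have h44 : 1936 ≤ p ^ 2 := Nat.pow_le_pow_left h 2
  interval_cases n
  · have : σ ≤ 24 := hσ
    obtain ⟨m, rfl⟩ := Nat.exists_eq_add_of_le (show 2 ≤ m by omega)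
    rw [pow_mul] at key
    refine key (cond (j := 1) (by rwa [show 2 + m - 1 = 1 + m by omega] at hτ) hX (by omega) ?_)
    have : σ ^ 2 ≤ 24 ^ 2 := by gcongr
    calc _ ≤ 5 * p ^ 2 * p ^ 2 := Nat.mul_le_mul_right _ (by norm_num at this ⊢; omega)
      _ = _ := by ring
  · have : σ ≤ 216 := hσ
    exact c1 (by rw [pow_succ p 2]; nlinarith)
  · have : σ ≤ 3276 := hσ
    exact c1 (by rw [show p ^ 4 = p ^ 2 * p ^ 2 by ring]; nlinarith)

theorem num_special {p s u k ν : ℕ} (h11 : 11 ≤ p) (hs : s ≤ 6) (hu : u ∣ p - 1)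
    (hk : 9 * s * u ≤ 2 * s * k + 6 * u) (hP : p ^ 2 ≤ 4 * s * u * ν + 1) :
    49 * p ≤ 60 * (k + ν) := by
  by_contra! h
  have h121 : 121 ≤ p ^ 2 := Nat.pow_le_pow_left h11 2
  have h3 : 14400 * (k * ν) ≤ 2401 * p ^ 2 := by
    nlinarith [sq_nonneg ((k : ℤ) - ν), Nat.mul_le_mul h.le h.le]
  have h4 := Nat.mul_le_mul_right ν hk
  rcases hs.lt_or_eq with hs | rfl
  · interval_cases s <;> nlinarith
  obtain ⟨t, ht⟩ := hu
  obtain rfl : p = u * t + 1 := by omega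
  have hu : 0 < u := Nat.pos_of_ne_zero (by rintro rfl; omega)
  have h5 : t * (u * t + 2) ≤ 24 * ν := Nat.le_of_mul_le_mul_left (by nlinarith) hu
  have h6 : 4 * u ≤ k := by omega
  rcases lt_or_ge t 11 with h7 | h7
  · rcases lt_or_ge u 3 with h8 | h8
    · interval_cases u <;> interval_cases t <;> omega
    · interval_cases t <;> omega
  · nlinarith [Nat.mul_le_mul_left u (show 98 * t ≤ 5 * t * t + 480 by
      nlinarith [sq_nonneg ((t : ℤ) - 10)])]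

end Cfsg.Agent.SLG
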