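import Cfsg.Agent.Lib.SLG.ST
import Cfsg.Agent.Lib.Mod.Bridge

/-!
The structure theorem for a minimal normal subgroup of a solvable group, and a bound of
Pálfy–Wolf type: `25 |G : C(V)|² ≤ |V|⁵` for completely reducible `V ≠ 1`.
-/

set_option autoImplicit false

namespace Cfsg.Agent.SLG

open Subgroup Module Cfsg.Agent.OO
open scoped Pointwise commutatorElement

universe u

variable {G : Type u} [Group G]

structure Data (p : ℕ) (V : Subgroup G) {H K : Type u} [Group H] [Group K] (π : G →* H)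
    (N B C : Subgroup H) (C' U' A' : Subgroup K) (a n : ℕ) : Prop where
  surj : Function.Surjective π
  ker : π.ker = 𝐂(V)
  solH : Group.IsSolvable H
  solK : Group.IsSolvable K
  sym : Sym C' U' A'
  nB : B.Normal
  le : B ≤ C
  cent : C ≤ 𝐂(B)
  core : C ≤ N.normalCore
  card : ♯V = p ^ (a * n * N.index)
  h1 : C.relIndex N.normalCore ≤ a ^ N.index
  h2 : B.relIndex C ≤ U'.relIndex C' ^ N.index
  h3 : ♯B ≤ ♯U' ^ N.index
  dvd : ♯U' ∣ p ^ a - 1
  sq : U'.relIndex A' ≤ n ^ 2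
  idx : C'.index ≤ a
  inv : ∃ c : G → ℕ, (∀ g, ∀ x ∈ V, c (g * x * g⁻¹) = c x) ∧ c 1 = 0 ∧
    ∀ j ≤ N.index, ∃ x ∈ V, c x = j
  onto : N.index = 1 → ∃ f : H →* K, Function.Surjective f

variable [Finite G]

theorem exists_data [Group.IsSolvable G] {V : Subgroup G} (hV : Core.IsMinNormal V) {p : ℕ}
    [hp : Fact p.Prime] (hE : IsElementaryAbelian p V) :
    ∃ (H K : Type u) (_ : Group H) (_ : Group K) (_ : Finite H) (_ : Finite K) (π : G →* H)
      (N B C : Subgroup H) (C' U' A' : Subgroup K) (a n : ℕ), Data p V π N B C C' U' A' a n := by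
  have := hV.normal
  obtain ⟨W, _, _, _, ρ, ι, h⟩ := Mod.exists_isLin (ZMod p) hE
  have : Finite W := Module.finite_of_finite (ZMod p)
  have := h.nontrivial_iff.2 hV.ne_bot
  have hs : ∀ w, ∃ x ∈ V, ι x = w := fun w => by
    obtain ⟨x, hx⟩ := ((Nat.bijective_iff_injective_and_card (fun x : V => ι x)).2
      ⟨fun a b e => Subtype.ext (h.inj a.2 b.2 e), by
        rw [h.card_eq, natCard_eq_pow_finrank (K := ZMod p), Nat.card_zmod]⟩).2 w
    exact ⟨x, x.2, hx⟩
  have hi : Irr (kerR ρ) := fun S hS => by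
    let U : Subgroup G :=
      { carrier := {x | x ∈ V ∧ ι x ∈ S}
        mul_mem' := fun ha hb => ⟨V.mul_mem ha.1 hb.1, h.map_mul _ ha.1 _ hb.1 ▸ S.add_mem ha.2 hb.2⟩
        one_mem' := ⟨V.one_mem, h.map_one ▸ S.zero_mem⟩
        inv_mem' := fun ha => ⟨V.inv_mem ha.1, h.map_inv ha.1 ▸ S.neg_mem ha.2⟩ }
    refine (hV.eq_bot_or_eq U ⟨fun x hx g => ⟨hV.normal.conj_mem x hx.1 g,
      h.conj g x hx.1 ▸ hS (g : G ⧸ ρ.ker) _ hx.2⟩⟩ fun x hx => hx.1).imp
      (fun e => eq_bot_iff.2 fun w hw => ?_) fun e => eq_top_iff.2 fun w _ => ?_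
    · obtain ⟨x, hx, rfl⟩ := hs w
      rw [mem_bot.1 (e.le ⟨hx, hw⟩), h.map_one]; exact zero_mem _
    · obtain ⟨x, hx, rfl⟩ := hs w
      exact (e.ge hx).2
  obtain ⟨N, B, C, K, _, _, C', U', A', a, n, h1, h2, h3, h4, h5, h6, h7, h8, h9, h10, h11, h12, h13,
    ⟨c, c1, c2, c3⟩, h15⟩ := st (kerR_inj ρ) hi
  refine ⟨_, K, _, _, inferInstance, inferInstance, QuotientGroup.mk' _, N, B, C, C', U', A', a, n,
    QuotientGroup.mk'_surjective _, (QuotientGroup.ker_mk' _).trans h.ker_eq, inferInstance, h1, h2,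
    h3, h4, h5, h6, h7 ▸ h.card_eq, h8, h9, h10, Nat.card_zmod p ▸ h11, h12, h13,
    ⟨c ∘ ι, fun g x hx => ?_, (congrArg c h.map_one).trans c2, fun j hj => ?_⟩, h15⟩
  · exact (congrArg c (h.conj g x hx)).symm.trans (c1 (g : G ⧸ ρ.ker) _)
  · obtain ⟨w, rfl⟩ := c3 j hj
    obtain ⟨x, hx, rfl⟩ := hs w
    exact ⟨x, hx, rfl⟩

/-- numerical information on the symplectic section -/
def Sig (ε σ u : ℕ) : Prop :=
  (ε = 1 ∧ σ = 1) ∨ (2 ≤ ε ∧ 2 ≤ u ∧ 5 * σ ≤ ε ^ 7 ∧ (ε.Prime → σ ≤ ε ^ 2 * ((ε ^ 2 - 1) * ε)))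

theorem Sym.sig {C U A : Subgroup G} (h : Sym C U A) {ε : ℕ} (e : U.relIndex A = ε ^ 2)
    (ih : 2 ≤ ε → 2 ≤ ♯U → haveI := h.nU
      25 * 𝐂(A.map (QuotientGroup.mk' U)).index ^ 2 ≤ ♯(A.map (QuotientGroup.mk' U)) ^ 5) :
    Sig ε (U.relIndex C) ♯U := by
  have := h.nU
  by_cases hA : A ≤ U
  · rw [relIndex_eq_one.2 hA] at e
    exact Or.inl ⟨(Nat.pow_eq_one.1 e.symm).resolve_right two_ne_zero,
      relIndex_eq_one.2 (h.eq_of_le hA)⟩
  have h1 : 2 ≤ ε := by
    have h0 := relIndex_pos U A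
    have h1 := mt relIndex_eq_one.1 hA
    rw [e] at h0 h1
    match ε, h0, h1 with
    | _ + 2, _, _ => omega
  have h2 : 2 ≤ ♯U := one_lt_card (mt h.le_of_eq_bot hA)
  have h3 := ih h1 h2
  rw [card_map_mk, e] at h3
  rw [← relIndex_mul_relIndex _ _ _ h.le1 h.le2, e]
  refine Or.inr ⟨h1, h2, ?_, fun hp => Nat.mul_le_mul_left _ (h.sp hp e)⟩
  have h4 : 5 * A.relIndex C ≤ ε ^ 5 := (Nat.mul_le_mul_left _ h.relIndex_le).trans
    ((Nat.pow_le_pow_iff_left two_ne_zero).1 (by rw [mul_pow, ← pow_mul, mul_comm 5 2, pow_mul]; exact h3))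
  calc _ = ε ^ 2 * (5 * A.relIndex C) := by ring
    _ ≤ ε ^ 2 * ε ^ 5 := Nat.mul_le_mul_left _ h4
    _ = _ := by ring

theorem pw_n1 {ε : ℕ} (h : 4 ≤ ε) : 4 * ε ^ 14 ≤ 3 ^ (5 * ε) := by
  induction ε, h using Nat.le_induction with
  | base => norm_num
  | succ ε h ih =>
    have : (4 * (ε + 1)) ^ 14 ≤ (5 * ε) ^ 14 := Nat.pow_le_pow_left (by omega) _
    rw [mul_pow, mul_pow] at this
    rw [mul_add, pow_add]
    omega

theorem pw_n2 {ε : ℕ} (h : 2 ≤ ε) : 4 ^ 3 * ε ^ 14 ≤ 4 ^ (5 * ε) := by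
  induction ε, h using Nat.le_induction with
  | base => norm_num
  | succ ε h ih =>
    have : (2 * (ε + 1)) ^ 14 ≤ (3 * ε) ^ 14 := Nat.pow_le_pow_left (by omega) _
    rw [mul_pow, mul_pow] at this
    rw [mul_add, pow_add]
    omega

theorem sq_le_two_pow (a : ℕ) : a ^ 2 ≤ 2 ^ a + 1 := by
  rcases lt_or_ge a 4 with h | h
  · interval_cases a <;> norm_num
  induction a, h using Nat.le_induction with
  | base => norm_num
  | succ a h ih => rw [pow_succ 2]; nlinarith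

theorem pw_num {Q a n ε σ u : ℕ} (ha : 1 ≤ a) (hQ : 2 ^ a ≤ Q) (hu : u + 1 ≤ Q) (hn : ε ≤ n)
    (h : Sig ε σ u) : 25 * (a * σ * u) ^ 2 ≤ (Q ^ n) ^ 5 := by
  have h2 : 2 ≤ Q := (Nat.le_self_pow (by omega) 2).trans hQ
  have h3 : (a * u) ^ 2 ≤ Q ^ 3 := by
    have := (sq_le_two_pow a).trans (Nat.succ_le_succ hQ)
    calc _ = a ^ 2 * u ^ 2 := by ring
      _ ≤ (Q + 1) * u ^ 2 := Nat.mul_le_mul_right _ this
      _ ≤ _ := by
        obtain ⟨q, rfl⟩ := Nat.exists_eq_add_of_le' (show 1 ≤ Q by omega)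
        have : u ^ 2 ≤ q ^ 2 := Nat.pow_le_pow_left (by omega) _
        nlinarith
  have h4 : Q < 4 → a = 1 := fun h => by
    by_contra h'
    have : 2 ^ 2 ≤ 2 ^ a := Nat.pow_le_pow_right two_pos (by omega)
    omega
  refine le_trans ?_ (Nat.pow_le_pow_left (Nat.pow_le_pow_right (by omega) hn) _)
  rcases h with ⟨rfl, rfl⟩ | ⟨e2, u2, h5, h6⟩
  · rw [mul_one, pow_one]
    rcases lt_or_ge Q 5 with h | h
    · have : a ≤ 2 := by
        by_contra h'
        have : 2 ^ 3 ≤ 2 ^ a := Nat.pow_le_pow_right two_pos (by omega)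
        omega
      have : u ≤ 3 := by omega
      interval_cases Q <;> interval_cases a <;> interval_cases u <;> simp_all
    · calc _ ≤ Q ^ 2 * Q ^ 3 := Nat.mul_le_mul (by nlinarith) h3
        _ = _ := by ring
  have h7 : (5 * σ) ^ 2 ≤ ε ^ 14 := (Nat.pow_le_pow_left h5 2).trans (by rw [← pow_mul])
  rcases lt_or_ge Q 4 with h | h
  · obtain rfl := h4 h
    obtain rfl : Q = 3 := by omega
    obtain rfl : u = 2 := by omega
    rcases lt_or_ge ε 4 with h | h
    · interval_cases ε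
      · have : σ ≤ 24 := h6 Nat.prime_two
        nlinarith
      · have : σ ≤ 216 := h6 Nat.prime_three
        nlinarith
    · have := pw_n1 h
      rw [← pow_mul, mul_comm ε]
      nlinarith
  · obtain ⟨t, ht⟩ := Nat.exists_eq_add_of_le' (show 3 ≤ 5 * ε by omega)
    have h8 := pw_n2 e2
    rw [ht, pow_add, mul_comm] at h8
    calc _ = (5 * σ) ^ 2 * (a * u) ^ 2 := by ring
      _ ≤ Q ^ t * Q ^ 3 := Nat.mul_le_mul (h7.trans ((Nat.le_of_mul_le_mul_right h8
          (by norm_num)).trans (Nat.pow_le_pow_left h _))) h3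
      _ = _ := by rw [← pow_mul, mul_comm ε, ht, pow_add]

theorem CR.of_le {V D : Subgroup G} (h : CR V) (hn : D.Normal) (hD : D ≤ V) : CR D := by
  intro E hE hED
  obtain ⟨E', h1, -, h3, h4⟩ := h E hE (hED.trans hD)
  refine ⟨E' ⊓ D, inferInstance, inf_le_right, le_bot_iff.1 ((inf_le_inf_left _ inf_le_left).trans
    h3.le), ?_⟩
  rw [← sup_inf_of_le_left (Or.inl le_normalizer_of_normal) hED]
  exact le_inf (hD.trans h4) le_rfl

namespace Data

variable {p : ℕ} {V : Subgroup G} {H K : Type u} [Group H] [Group K] [Finite H] [Finite K]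
  {π : G →* H} {N B C : Subgroup H} {C' U' A' : Subgroup K} {a n : ℕ}
  (h : Data p V π N B C C' U' A' a n)
include h

theorem pos (h0 : V ≠ ⊥) : 1 ≤ a ∧ 1 ≤ n := by
  have := h.card ▸ one_lt_card h0
  have : a * n * N.index ≠ 0 := fun e => by simp [e] at this
  simp only [ne_eq, mul_eq_zero, not_or] at this
  omega

theorem index_eq : 𝐂(V).index = Nat.card H := by
  rw [← h.ker, index_ker, MonoidHom.range_eq_top.2 h.surj, card_top]

theorem index_C : C.index ≤ N.normalCore.index * a ^ N.index := by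
  rw [← relIndex_mul_index h.core, mul_comm]
  exact Nat.mul_le_mul_left _ h.h1

theorem index_B : B.index ≤ N.normalCore.index * (a * U'.relIndex C') ^ N.index := by
  rw [← relIndex_mul_index h.le, mul_comm, mul_pow, ← mul_assoc]
  exact Nat.mul_le_mul h.index_C h.h2

theorem card_U (hp : p.Prime) (h0 : V ≠ ⊥) : ♯U' + 1 ≤ p ^ a := by
  have := Nat.one_lt_pow (Nat.one_le_iff_ne_zero.1 (h.pos h0).1) hp.one_lt
  have := Nat.le_of_dvd (by omega) h.dvd
  omega

end Data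

theorem sq_lt_three_pow (n : ℕ) : n ^ 2 < 3 ^ n := by
  rcases lt_or_ge n 2 with h | h
  · interval_cases n <;> norm_num
  induction n, h using Nat.le_induction with
  | base => norm_num
  | succ a h ih => rw [pow_succ 3]; nlinarith

theorem pw_aux (t : ℕ) : ∀ (G : Type u) [Group G] [Finite G] [Group.IsSolvable G] (V : Subgroup G),
    V.Normal → CR V → V ≠ ⊥ → ♯V ≤ t → 25 * 𝐂(V).index ^ 2 ≤ ♯V ^ 5 := by
  induction t with
  | zero => exact fun G _ _ _ V _ _ _ h => absurd h (card_pos' V).not_ge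
  | succ t ih =>
    intro G _ _ _ V hn hV h0 ht
    obtain ⟨D, hD, hDV⟩ := Core.exists_isMinNormal_le h0
    obtain ⟨D', h1, h2, h3, h4⟩ := hV D hD.normal hDV
    rcases eq_or_ne D' ⊥ with rfl | h5
    · obtain rfl : D = V := le_antisymm hDV (by simpa using h4)
      obtain ⟨p, hp, hE⟩ := hD.exists_isElementaryAbelian inferInstance
      have := Fact.mk hp
      obtain ⟨H, K, _, _, _, _, π, N, B, C, C', U', A', a, n, h⟩ := exists_data hD hE
      obtain ⟨ε, hε⟩ := h.sym.exists_sq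
      have hεn : ε ≤ n := (Nat.pow_le_pow_iff_left two_ne_zero).1 (hε ▸ h.sq)
      have hu := h.card_U hp h0
      have hm : N.index ≠ 0 := index_ne_zero_of_finite
      have := h.solK
      have := h.solH
      have := h.sym.nU
      have hs := h.sym.sig hε fun e2 u2 => by
        refine ih _ _ (h.sym.nA.map _ (QuotientGroup.mk'_surjective _)) h.sym.cr (fun e => ?_)
          (Nat.le_of_lt_succ (lt_of_lt_of_le ?_ ht))
        · have := card_map_mk (U := U') A'
          rw [e, card_bot, hε] at this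
          nlinarith
        · rw [card_map_mk, h.card, mul_assoc, pow_mul]
          exact (h.sq.trans_lt (sq_lt_three_pow n)).trans_le ((Nat.pow_le_pow_left (by omega) _).trans
            (Nat.pow_le_pow_right (by omega) (Nat.le_mul_of_pos_right _ (Nat.pos_of_ne_zero hm))))
      have h6 := pw_num (h.pos h0).1 (Nat.pow_le_pow_left hp.two_le a) hu hεn hs
      have h7 : Nat.card H ≤ 3 ^ (N.index - 1) * (a * U'.relIndex C' * ♯U') ^ N.index := by
        rw [← B.index_mul_card, mul_pow, ← mul_assoc]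
        exact Nat.mul_le_mul (h.index_B.trans (Nat.mul_le_mul_right _ (dixon _ H N le_rfl))) h.h3
      obtain ⟨m, hm⟩ := Nat.exists_eq_succ_of_ne_zero hm
      rw [h.index_eq, h.card, pow_mul, pow_mul, ← pow_mul _ _ 5, mul_comm _ 5, pow_mul]
      refine le_trans ?_ (Nat.pow_le_pow_left h6 _)
      rw [hm] at h7 ⊢
      calc _ ≤ 25 * (3 ^ m * (a * U'.relIndex C' * ♯U') ^ (m + 1)) ^ 2 := by gcongr; exact h7
        _ = 25 * 9 ^ m * ((a * U'.relIndex C' * ♯U') ^ 2) ^ (m + 1) := by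
          rw [mul_pow, pow_right_comm 3, pow_right_comm _ (m + 1), mul_assoc 25]; rfl
        _ ≤ 25 * 25 ^ m * ((a * U'.relIndex C' * ♯U') ^ 2) ^ (m + 1) := by gcongr; norm_num
        _ = _ := by rw [mul_pow 25, pow_succ' 25]
    have := hD.normal
    have h6 : D ⊔ D' = V := le_antisymm (sup_le hDV h2) h4
    have h7 := card_sup_of_inf_eq_bot (Or.inl le_normalizer_of_normal) h3
    rw [h6] at h7
    have h8 := one_lt_card hD.ne_bot
    have h9 := one_lt_card h5
    have i1 := ih G D this (hV.of_le this hDV) hD.ne_bot (by nlinarith)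
    have i2 := ih G D' h1 (hV.of_le h1 h2) h5 (by nlinarith)
    have h10 : 𝐂(V).index ≤ 𝐂(D).index * 𝐂(D').index := by
      rw [← h6, cent_sup]; exact index_inf_le
    calc _ ≤ 25 * (𝐂(D).index * 𝐂(D').index) ^ 2 := by gcongr
      _ ≤ (25 * 𝐂(D).index ^ 2) * (25 * 𝐂(D').index ^ 2) := by rw [mul_pow]; nlinarith
      _ ≤ _ := by rw [h7, mul_pow]; exact Nat.mul_le_mul i1 i2

/-- bound of Pálfy–Wolf type -/
theorem pw [Group.IsSolvable G] {V : Subgroup G} (hn : V.Normal) (h : CR V) (h0 : V ≠ ⊥) :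
    25 * 𝐂(V).index ^ 2 ≤ ♯V ^ 5 := pw_aux _ G V hn h h0 le_rfl

theorem Sym.exists_sig [Group.IsSolvable G] {C U A : Subgroup G} (h : Sym C U A) :
    ∃ ε, U.relIndex A = ε ^ 2 ∧ Sig ε (U.relIndex C) ♯U := by
  obtain ⟨ε, hε⟩ := h.exists_sq
  have := h.nU
  refine ⟨ε, hε, h.sig hε fun e2 _ =>
    pw (h.nA.map _ (QuotientGroup.mk'_surjective _)) h.cr fun e => ?_⟩
  have := card_map_mk (U := U) A
  rw [e, card_bot, hε] at this
  nlinarith

end Cfsg.Agent.SLG
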