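import Cfsg.Agent.Lib.OO.Basic
import Cfsg.Agent.Lib.PGrp.Extraspecial
import Cfsg.Agent.Lib.Cls.Count

/-!
Solvable normal subgroups all of whose abelian normal subgroups are central and cyclic: the
symplectic section `A / U`.
-/

set_option autoImplicit false

namespace Cfsg.Agent.SLG

open Subgroup Cfsg.Agent.OO
open scoped Pointwise commutatorElement

universe u

variable {G : Type u} [Group G] {C U A D X : Subgroup G}

/-- orbit bound for the index of a centralizer -/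
theorem relIndex_cent1_le [Finite G] {y : G} {S : Set G} (h : ∀ x ∈ X, x * y * x⁻¹ ∈ S) :
    𝐂[y].relIndex X ≤ S.ncard := by
  rw [← Cls.ncard_conjOrbit]
  refine Set.ncard_le_ncard ?_
  rintro _ ⟨x, hx, rfl⟩
  exact h x hx

structure Hyp (C U : Subgroup G) : Prop where
  nC : C.Normal
  nU : U.Normal
  sol : Sol C
  le : U ≤ C
  cen : C ≤ 𝐂(U)
  cyc : IsCyclic U
  max : ∀ D : Subgroup G, D.Normal → D ≤ C → Ab D → D ≤ U

structure Sym (C U A : Subgroup G) : Prop extends Hyp C U where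
  nA : A.Normal
  le1 : U ≤ A
  le2 : A ≤ C
  comm : ⁅A, A⁆ ≤ U
  faith : ∀ x ∈ C, (∀ a ∈ A, ⁅x, a⁆ ∈ U) → x ∈ A

/-- completely reducible normal subgroup -/
def CR (V : Subgroup G) : Prop :=
  ∀ D : Subgroup G, D.Normal → D ≤ V → ∃ D' : Subgroup G, D'.Normal ∧ D' ≤ V ∧ D ⊓ D' = ⊥ ∧ V ≤ D ⊔ D'

theorem Hyp.zc (h : Hyp C U) (hn : D.Normal) (hD : D ≤ C) : D ⊓ 𝐂(D) ≤ U :=
  h.max _ inferInstance (inf_le_left.trans hD) (Zc_ab D)

variable [Finite G]

theorem Hyp.symm (h : Hyp C U) (hX : X ≤ C) (hD : D ≤ C) (hc : ⁅X, D⁆ ≤ U) :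
    𝐂(D).relIndex X = 𝐂(X).relIndex D :=
  haveI := h.cyc
  PGrp.relIndex_centralizer_symm hc (le_cent_symm (hX.trans h.cen)) (le_cent_symm (hD.trans h.cen))

theorem Hyp.le_sup (h : Hyp C U) (hn : D.Normal) (hU : U ≤ D) (hDX : D ≤ X) (hX : X ≤ C)
    (hc : ⁅X, D⁆ ≤ U) : X ≤ D ⊔ (X ⊓ 𝐂(D)) := by
  have h1 := h.symm hX (hDX.trans hX) hc
  have h2 : 𝐂(X).relIndex D ≤ U.relIndex D :=
    relIndex_le_of_le_left (le_cent_symm (hX.trans h.cen)) (relIndex_pos _ _).ne'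
  have h3 : U.relIndex D ≤ (X ⊓ 𝐂(D)).relIndex D := by
    rw [← inf_relIndex_right (X ⊓ 𝐂(D))]
    exact relIndex_le_of_le_left ((le_inf inf_le_right (inf_le_left.trans inf_le_right)).trans
      (h.zc hn (hDX.trans hX))) (relIndex_pos _ _).ne'
  have h4 := relIndex_sup_eq (A := D) (B := X ⊓ 𝐂(D)) (Or.inr le_normalizer_of_normal)
  have h5 := card_mul_relIndex (le_sup_right : X ⊓ 𝐂(D) ≤ D ⊔ X ⊓ 𝐂(D))
  have h6 := card_inf_mul_relIndex 𝐂(D) X
  rw [inf_comm] at h6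
  refine (eq_of_le_of_card_le (sup_le hDX inf_le_left) ?_).ge
  rw [← h5, ← h6, h4, h1]
  exact Nat.mul_le_mul_left _ (h2.trans h3)

theorem Hyp.exists_sym (h : Hyp C U) : ∃ A, Sym C U A := by
  have := h.nU
  have := h.nC
  obtain ⟨A, h1, ⟨hn, h2, h3⟩, h4⟩ := Core.exists_maximal_ge
    (P := fun A : Subgroup G => A.Normal ∧ A ≤ C ∧ ⁅A, A⁆ ≤ U) (H := U)
    ⟨h.nU, h.le, commutator_le_left _ _⟩
  refine ⟨A, h, hn, h1, h2, h3, fun x hx hxa => ?_⟩
  set B := C ⊓ (𝐂(A.map (QuotientGroup.mk' U))).comap (QuotientGroup.mk' U) with hB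
  have hmem : ∀ y, y ∈ B ↔ y ∈ C ∧ ∀ a ∈ A, ⁅y, a⁆ ∈ U := fun y => by
    refine and_congr_right fun _ => ⟨fun e a ha => ?_, fun e => ?_⟩
    · rw [← QuotientGroup.eq_one_iff, ← QuotientGroup.mk'_apply, map_commutatorElement,
        commutatorElement_eq_one_iff_mul_comm]
      exact (e _ ⟨a, ha, rfl⟩).symm
    · rintro _ ⟨a, ha, rfl⟩
      have := (QuotientGroup.eq_one_iff _).2 (e a ha)
      rw [← QuotientGroup.mk'_apply, map_commutatorElement,
        commutatorElement_eq_one_iff_mul_comm] at this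
      exact this.symm
  have hBn : B.Normal := by
    have := hn.map _ (QuotientGroup.mk'_surjective U)
    infer_instance
  have hAB : A ≤ B := fun a ha =>
    (hmem a).2 ⟨h2 ha, fun b hb => h3 (commutator_mem_commutator ha hb)⟩
  have hle := h.le_sup hn h1 hAB inf_le_left
    (commutator_le.2 fun y hy a ha => ((hmem y).1 hy).2 a ha)
  have key : ∀ n, ∀ E : Subgroup G, E.Normal → E ≤ B ⊓ 𝐂(A) → ♯E ≤ n → E ≤ A := by
    intro n
    induction n with
    | zero => exact fun E _ _ hc => absurd hc (card_pos' E).not_ge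
    | succ n ih =>
      intro E hE hle hc
      rcases eq_or_ne E ⊥ with rfl | h0
      · exact bot_le
      have hEC : E ≤ C := hle.trans (inf_le_left.trans inf_le_left)
      have h5 := ih (der E) inferInstance ((der_le E).trans hle)
        (Nat.le_of_lt_succ ((card_lt (der_lt (sol_of_le h.sol hEC) h0)).trans_le hc))
      have h6 : der E ≤ U :=
        (le_inf h5 ((der_le E).trans (hle.trans inf_le_right))).trans (h.zc hn h2)
      have h7 := (IsCprod.mk rfl (hle.trans inf_le_right) : IsCprod A E (A ⊔ E)).der_eq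
      exact le_sup_right.trans (h4 (A ⊔ E) ⟨inferInstance, sup_le h2 hEC,
        h7.le.trans (sup_le h3 h6)⟩ le_sup_left).le
  exact (hle.trans (sup_le le_rfl (key _ _ inferInstance le_rfl le_rfl))) ((hmem x).2 ⟨hx, hxa⟩)

namespace Sym

theorem zc (h : Sym C U A) : A ⊓ 𝐂(A) ≤ U := h.toHyp.zc h.nA h.le2

theorem exists_sq (h : Sym C U A) : ∃ ε, U.relIndex A = ε ^ 2 := by
  obtain ⟨L, h1, ⟨h2, h3⟩, h4⟩ := Core.exists_maximal_ge
    (P := fun L : Subgroup G => L ≤ A ∧ Ab L) (H := U) ⟨h.le1, ab_of_isCyclic h.cyc⟩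
  have e1 : A ⊓ 𝐂(L) = L := by
    refine le_antisymm (fun x hx => ?_) (le_inf h2 (Ab.le_cent h3))
    have hz := zpowers_le.2 hx.2
    exact (h4 (L ⊔ zpowers x) ⟨sup_le h2 (zpowers_le.2 hx.1),
      ab_sup h3 inferInstance (le_cent_symm hz)⟩ le_sup_left).le (mem_sup_right (mem_zpowers x))
  have e2 : 𝐂(A) ⊓ L = U := le_antisymm ((le_inf (inf_le_right.trans h2) inf_le_left).trans h.zc)
    (le_inf (le_cent_symm (h.le2.trans h.cen)) h1)
  have e3 := h.toHyp.symm h.le2 (h2.trans h.le2) ((commutator_mono le_rfl h2).trans h.comm)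
  rw [← inf_relIndex_right, inf_comm, e1, ← inf_relIndex_right 𝐂(A), e2] at e3
  exact ⟨_, by rw [← relIndex_mul_relIndex _ _ _ h1 h2, e3, sq]⟩

theorem eq_of_le (h : Sym C U A) (hA : A ≤ U) : C ≤ U := fun x hx =>
  hA (h.faith x hx fun a ha => by
    rw [commutatorElement_eq_one_iff_mul_comm.2 (h.cen hx a (hA ha)).symm]; exact one_mem _)

theorem le_of_eq_bot (h : Sym C U A) (hU : U = ⊥) : A ≤ U :=
  (le_inf le_rfl (commutator_eq_bot_iff.1 (le_bot_iff.1 (hU ▸ h.comm)))).trans h.zc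

omit [Finite G] in
theorem _root_.Cfsg.Agent.SLG.mk_comm_iff [U.Normal] {x y : G} :
    QuotientGroup.mk' U x ∈ 𝐂[QuotientGroup.mk' U y] ↔ ⁅x, y⁆ ∈ U := by
  rw [mem_cent1, ← commutatorElement_eq_one_iff_mul_comm, ← map_commutatorElement,
    QuotientGroup.mk'_apply, QuotientGroup.eq_one_iff]

omit [Finite G] in
theorem _root_.Cfsg.Agent.SLG.card_map_mk [U.Normal] (A : Subgroup G) :
    ♯(A.map (QuotientGroup.mk' U)) = U.relIndex A := by
  rw [← relIndex_ker, QuotientGroup.ker_mk']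

variable [U.Normal]

theorem ab (h : Sym C U A) : Ab (A.map (QuotientGroup.mk' U)) := ab_iff.2 (by
  rintro _ ⟨a, ha, rfl⟩ _ ⟨b, hb, rfl⟩
  exact mem_cent1.1 (mk_comm_iff.2 (h.comm (commutator_mem_commutator ha hb))))

theorem cr (h : Sym C U A) : CR (A.map (QuotientGroup.mk' U)) := by
  intro D hn hD
  have := h.nA
  have h1 : U ≤ D.comap (QuotientGroup.mk' U) := fun x hx => by
    rw [mem_comap, QuotientGroup.mk'_apply, (QuotientGroup.eq_one_iff _).2 hx]; exact one_mem _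
  have h2 : D.comap (QuotientGroup.mk' U) ≤ A := by
    refine (comap_mono hD).trans ?_
    rw [comap_map_eq, QuotientGroup.ker_mk', sup_eq_left.2 h.le1]
  have h3 := h.toHyp.le_sup (hn.comap _) h1 h2 h.le2 ((commutator_mono le_rfl h2).trans h.comm)
  refine ⟨(A ⊓ 𝐂(D.comap (QuotientGroup.mk' U))).map (QuotientGroup.mk' U),
    Normal.map inferInstance _ (QuotientGroup.mk'_surjective U), map_mono inf_le_left,
    le_bot_iff.1 ?_, (map_mono h3).trans ?_⟩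
  · rintro _ ⟨hx, x, hx', rfl⟩
    exact (QuotientGroup.eq_one_iff _).2 (h.toHyp.zc (hn.comap _) (h2.trans h.le2) ⟨hx, hx'.2⟩)
  · rw [Subgroup.map_sup]
    exact sup_le_sup_right (map_comap_le _ _) _

theorem relIndex_le (h : Sym C U A) : A.relIndex C ≤ 𝐂(A.map (QuotientGroup.mk' U)).index := by
  rw [← index_comap_of_surjective _ (QuotientGroup.mk'_surjective U), ← relIndex_top_right]
  refine le_trans ?_ (relIndex_le_of_le_right (le_top (a := C)) (relIndex_pos _ _).ne')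
  rw [← inf_relIndex_right (comap _ _)]
  exact relIndex_le_of_le_left (fun x hx => h.faith x hx.2 fun a ha =>
    mk_comm_iff.1 (cent_le_cent1 (mem_map_of_mem _ ha) hx.1)) (relIndex_pos _ _).ne'

/-- `|SL₂(r)|` bounds `|C : A|` if `|A : U| = r²` -/
theorem sp (h : Sym C U A) {r : ℕ} (hr : r.Prime) (e : U.relIndex A = r ^ 2) :
    A.relIndex C ≤ (r ^ 2 - 1) * r := by
  set π := QuotientGroup.mk' U
  have := h.nA
  have hc : ♯(A.map π) = r ^ 2 := (card_map_mk A).trans e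
  have hlt : ∀ Y < A.map π, ♯Y = 1 ∨ ♯Y = r := fun Y hY => by
    obtain ⟨i, hi, e⟩ := (Nat.dvd_prime_pow hr).1 (hc ▸ card_dvd hY.le)
    have := card_lt hY
    rw [e, hc] at this
    interval_cases i <;> simp_all
  obtain ⟨a, ha, haU⟩ : ∃ a ∈ A, a ∉ U := by
    by_contra! hh
    rw [relIndex_eq_one.2 hh] at e
    exact (Nat.one_lt_pow two_ne_zero hr.one_lt).ne e
  obtain ⟨b, hb, hab⟩ : ∃ b ∈ A, b ∉ 𝐂[a] := by
    by_contra! hh
    exact haU (h.zc ⟨ha, le_cent1_iff.1 hh⟩)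
  have ha1 : π a ≠ 1 := mt (QuotientGroup.eq_one_iff _).1 haU
  have hU : U ≤ A ⊓ 𝐂[a] := le_inf h.le1 (le_cent1_iff.2 (h.cen (h.le2 ha)))
  have hb1 : π b ∉ (A ⊓ 𝐂[a]).map π := fun hh => by
    have : b ∈ comap π ((A ⊓ 𝐂[a]).map π) := hh
    rw [comap_map_eq, QuotientGroup.ker_mk', sup_eq_left.2 hU] at this
    exact hab this.2
  have hY : (A ⊓ 𝐂[a]).map π < A.map π :=
    (map_mono inf_le_left).lt_of_ne fun e => hb1 (e ▸ mem_map_of_mem _ hb)
  have haY : π a ∈ (A ⊓ 𝐂[a]).map π := mem_map_of_mem _ ⟨ha, mem_cent1_self a⟩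
  have hYc : ♯((A ⊓ 𝐂[a]).map π) = r := (hlt _ hY).resolve_left fun e =>
    ha1 (mem_bot.1 (card_eq_one_iff.1 e ▸ haY))
  have h1 : (𝐂[π a] ⊓ 𝐂[π b]).comap π ⊓ C ≤ A := fun c hc' => h.faith c hc'.2 fun x hx => by
    refine mk_comm_iff.1 (mem_cent1_comm.1 ?_)
    by_contra hh
    have hl : A.map π ⊓ 𝐂[π c] < A.map π :=
      inf_le_left.lt_of_ne fun e => hh (e.ge (mem_map_of_mem _ hx)).2
    have ha2 : π a ∈ A.map π ⊓ 𝐂[π c] := ⟨mem_map_of_mem _ ha, mem_cent1_comm.1 hc'.1.1⟩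
    have hc2 := (hlt _ hl).resolve_left fun e => ha1 (mem_bot.1 (card_eq_one_iff.1 e ▸ ha2))
    by_cases hle : A.map π ⊓ 𝐂[π c] ≤ (A ⊓ 𝐂[a]).map π
    · exact hb1 (hle ⟨mem_map_of_mem _ hb, mem_cent1_comm.1 hc'.1.2⟩)
    · exact ha1 (mem_bot.1 (inf_eq_bot_of_prime (hc2 ▸ hr) hle ▸ mem_inf.2 ⟨ha2, haY⟩))
  refine (relIndex_le_of_le_left h1 (relIndex_pos _ _).ne').trans ?_
  rw [inf_relIndex_right, relIndex_comap, inf_comm, ← relIndex_inf_mul_relIndex, mul_comm]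
  refine Nat.mul_le_mul ?_ ?_
  · refine (relIndex_cent1_le (S := (A.map π : Set _) \ {1}) ?_).trans ?_
    · rintro _ ⟨c, -, rfl⟩
      refine ⟨⟨c * a * c⁻¹, h.nA.conj_mem a ha c, by simp⟩, fun e => ha1 ?_⟩
      simpa using e
    · rw [Set.ncard_diff_singleton_of_mem (one_mem _), ← hc]; rfl
  · refine (relIndex_cent1_le (S := (fun y => π b * y) '' ((A ⊓ 𝐂[a]).map π : Set _)) ?_).trans ?_
    · rintro _ ⟨hca, c, hc, rfl⟩
      refine ⟨π (b⁻¹ * (c * b * c⁻¹)), mem_map_of_mem _ ⟨A.mul_mem (A.inv_mem hb)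
        (h.nA.conj_mem b hb c), ?_⟩, by simp [mul_assoc]⟩
      have e1 := mem_cent_iff_conj.1 (h.cen hc) _ (h.comm (commutator_mem_commutator ha hb))
      have e2 := h.cen (h.le2 (h.nA.conj_mem _ (h.nA.conj_mem b hb c) a)) _ (mk_comm_iff.1 hca)
      have e3 : a * (c * b * c⁻¹) * a⁻¹ * (c * b * c⁻¹)⁻¹ = ⁅a, b⁆ := by
        rw [← e1, ← mul_inv_eq_iff_eq_mul.2 e2]; group
      rw [← cent1_inv]
      refine mem_cent1.2 ?_
      calc _ = b⁻¹ * a⁻¹ * (a * (c * b * c⁻¹) * a⁻¹ * (c * b * c⁻¹)⁻¹) * (c * b * c⁻¹) := by group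
        _ = _ := by rw [e3]; group
    · rw [Set.ncard_image_of_injective _ (mul_right_injective _), ← hYc]; rfl

end Sym

end Cfsg.Agent.SLG
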