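import Cfsg.Agent.Lib.SLG.Blk
import Cfsg.Agent.Lib.SLG.Dixon

/-!
The structure theorem for irreducible solvable linear groups over finite fields.
-/

set_option autoImplicit false

namespace Cfsg.Agent.SLG

open Subgroup Module Cfsg.Agent.OO
open scoped Pointwise commutatorElement

universe u

variable {k : Type*} {H : Type u} {V : Type*} [Field k] [Group H] [AddCommGroup V] [Module k V]
  {ρ : H →* End k V} {L : Subalgebra k (End k V)} {e x y : End k V}

variable (e) in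
/-- compression to the image of an idempotent -/
def rs : End k V →ₗ[k] End k (LinearMap.range e) where
  toFun x := e.rangeRestrict ∘ₗ x ∘ₗ (LinearMap.range e).subtype
  map_add' x y := by ext; simp
  map_smul' x y := by ext; simp

theorem rs_apply (w : LinearMap.range e) : (rs e x w : V) = e (x w) := rfl

theorem rs_eq_iff : rs e x = rs e y ↔ e * x * e = e * y * e :=
  ⟨fun h => LinearMap.ext fun v => congrArg Subtype.val (LinearMap.congr_fun h ⟨e v, v, rfl⟩),
    fun h => LinearMap.ext fun ⟨_, v, rfl⟩ => Subtype.ext (LinearMap.congr_fun h v)⟩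

theorem rs_one (he : e * e = e) : rs e 1 = 1 :=
  LinearMap.ext fun ⟨_, v, rfl⟩ => Subtype.ext (LinearMap.congr_fun he v)

theorem rs_mul (he : e * e = e) (hy : y * e = e * y) : rs e (x * y) = rs e x * rs e y :=
  LinearMap.ext fun ⟨_, v, rfl⟩ => Subtype.ext (show (e * (x * (y * e))) v =
    (e * (x * (e * (y * e)))) v by rw [← mul_assoc e y, ← hy, mul_assoc y, he])

theorem rs_eq_iff' (he : e * e = e) (hx : x * e = e * x) (hy : y * e = e * y) :
    rs e x = rs e y ↔ x * e = y * e := by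
  rw [rs_eq_iff, ← hx, ← hy, mul_assoc, mul_assoc, he]

/-- representation induced on the quotient by the kernel -/
def kerR {M : Type*} [Monoid M] (f : H →* M) : H ⧸ f.ker →* M := QuotientGroup.lift f.ker f le_rfl

theorem kerR_inj {M : Type*} [Monoid M] (f : H →* M) : Function.Injective (kerR f) := by
  rw [injective_iff_map_eq_one]
  intro x hx
  obtain ⟨x, rfl⟩ := QuotientGroup.mk_surjective x
  exact (QuotientGroup.eq_one_iff _).2 hx

namespace Blk

variable (h : Blk ρ L e)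

/-- the action of the block stabilizer on the block -/
def res : stab ρ e →* End k (LinearMap.range e) where
  toFun g := rs e (ρ g)
  map_one' := by rw [OneMemClass.coe_one, map_one, rs_one h.idem]
  map_mul' a b := by rw [coe_mul, map_mul, rs_mul h.idem (stab_comm b.2)]

/-- the field of the block -/
def fld : Subalgebra k (End k (LinearMap.range e)) where
  carrier := rs e '' L
  mul_mem' := by
    rintro _ _ ⟨x, hx, rfl⟩ ⟨y, hy, rfl⟩
    exact ⟨_, L.mul_mem hx hy, rs_mul h.idem (h.comm _ hy _ h.mem)⟩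
  add_mem' := by
    rintro _ _ ⟨x, hx, rfl⟩ ⟨y, hy, rfl⟩
    exact ⟨_, L.add_mem hx hy, map_add _ _ _⟩
  algebraMap_mem' c := ⟨_, L.algebraMap_mem c, by
    rw [Algebra.algebraMap_eq_smul_one, map_smul, rs_one h.idem, Algebra.algebraMap_eq_smul_one]⟩

include h in
theorem nontrivial : Nontrivial (LinearMap.range e) :=
  Submodule.nontrivial_iff_ne_bot.2 (mt LinearMap.range_eq_bot.1 h.ne)

theorem fld_comm : ∀ a ∈ h.fld, ∀ b ∈ h.fld, a * b = b * a := by
  rintro _ ⟨x, hx, rfl⟩ _ ⟨y, hy, rfl⟩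
  rw [← rs_mul h.idem (h.comm _ hy _ h.mem), ← rs_mul h.idem (h.comm _ hx _ h.mem), h.comm _ hx _ hy]

theorem isField [Finite V] : IsField h.fld := by
  have := h.nontrivial
  have : Finite (End k (LinearMap.range e)) := Finite.of_injective _ DFunLike.coe_injective
  have : NoZeroDivisors h.fld := ⟨fun {a b} hab => by
    obtain ⟨_, x, hx, rfl⟩ := a
    obtain ⟨_, y, hy, rfl⟩ := b
    have h0 : (0 : End k V) * e = e * 0 := by simp
    have h1 := (rs_eq_iff' h.idem (h.comm _ (L.mul_mem hx hy) _ h.mem) h0).1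
      ((rs_mul h.idem (h.comm _ hy _ h.mem)).trans ((congrArg Subtype.val hab).trans
        (map_zero _).symm))
    refine (h.bij x hx).imp (fun h2 => Subtype.ext ?_) fun h2 => Subtype.ext ?_
    · exact ((rs_eq_iff' h.idem (h.comm _ hx _ h.mem) h0).2 (by simpa using h2)).trans (map_zero _)
    · refine ((rs_eq_iff' h.idem (h.comm _ hy _ h.mem) h0).2 (LinearMap.ext fun v => ?_)).trans
        (map_zero _)
      rw [mul_assoc, h.comm _ hy _ h.mem] at h1
      rw [h.comm _ hy _ h.mem]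
      exact h2 _ (LinearMap.congr_fun h1 v)⟩
  have := NoZeroDivisors.to_isDomain h.fld
  letI : CommRing h.fld :=
    { (inferInstance : Ring h.fld) with
      mul_comm a b := Subtype.ext (h.fld_comm _ a.2 _ b.2) }
  exact Finite.isField_of_domain _

/-- the block group -/
abbrev BG : Type u := stab ρ e ⧸ h.res.ker

theorem cj_rs (g : stab ρ e) (hx : x * e = e * x) :
    cj (kerR h.res) (g : h.BG) (rs e x) = rs e (cj ρ g x) := by
  rw [cj_apply, cj_apply, rs_mul h.idem (stab_comm (inv_mem g.2)), rs_mul h.idem hx]; rfl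

theorem fld_inv : ∀ g, ∀ a ∈ h.fld, cj (kerR h.res) g a ∈ h.fld := by
  rintro g _ ⟨x, hx, rfl⟩
  obtain ⟨g, rfl⟩ := QuotientGroup.mk_surjective g
  exact ⟨_, h.inv _ _ hx, (h.cj_rs g (h.comm _ hx _ h.mem)).symm⟩

/-- preimage of a subgroup of the block group -/
def pre (X : Subgroup h.BG) : Subgroup H := (X.comap (QuotientGroup.mk' _)).map (stab ρ e).subtype

theorem mem_pre {X : Subgroup h.BG} {g : H} :
    g ∈ h.pre X ↔ ∃ hg : g ∈ stab ρ e, ((⟨g, hg⟩ : stab ρ e) : h.BG) ∈ X :=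
  ⟨by rintro ⟨g, hg, rfl⟩; exact ⟨g.2, hg⟩, fun ⟨hg, hX⟩ => ⟨⟨g, hg⟩, hX, rfl⟩⟩

theorem relIndex_pre (X Y : Subgroup h.BG) : (h.pre X).relIndex (h.pre Y) = X.relIndex Y := by
  rw [pre, pre, relIndex_map_map_of_injective _ _ (subtype_injective _), relIndex_comap,
    map_comap_eq_self_of_surjective (QuotientGroup.mk'_surjective _)]

theorem mem_cen {g : stab ρ e} : (g : h.BG) ∈ cen (kerR h.res) h.fld ↔
    ∀ x ∈ L, cj ρ g x * e = x * e := by
  refine ⟨fun hg x hx => ?_, ?_⟩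
  · have := hg _ ⟨x, hx, rfl⟩
    rwa [h.cj_rs g (h.comm _ hx _ h.mem), rs_eq_iff' h.idem (h.comm _ (h.inv _ _ hx) _ h.mem)
      (h.comm _ hx _ h.mem)] at this
  · rintro hg _ ⟨x, hx, rfl⟩
    rw [h.cj_rs g (h.comm _ hx _ h.mem), rs_eq_iff' h.idem (h.comm _ (h.inv _ _ hx) _ h.mem)
      (h.comm _ hx _ h.mem), hg x hx]

variable [Finite H]

theorem mem_scal {g : stab ρ e} : (g : h.BG) ∈ scal (kerR h.res) h.fld ↔
    ∃ x ∈ L, x * e = ρ g * e :=
  exists_congr fun _ => and_congr_right fun hx =>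
    rs_eq_iff' h.idem (h.comm _ hx _ h.mem) (stab_comm g.2)

theorem step {X Z : Subgroup H} [X.Normal] {X₁ X₂ : Subgroup h.BG} (hX : X ≤ h.pre X₁)
    (hZ : ∀ g ∈ X, (∀ q : H ⧸ stab ρ e, q.out⁻¹ * g * q.out ∈ h.pre X₂) → g ∈ Z) :
    Z.relIndex X ≤ X₂.relIndex X₁ ^ (stab ρ e).index :=
  (relIndex_le_pow _ hZ).trans (Nat.pow_le_pow_left ((relIndex_le_of_le_right hX
    (relIndex_pos _ _).ne').trans (h.relIndex_pre _ _).le) _)

theorem hmax (D : Subgroup h.BG) (hn : D.Normal) (hD : D ≤ cen (kerR h.res) h.fld) (ha : Ab D) :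
    D ≤ scal (kerR h.res) h.fld := by
  have hL : ∀ x : stab ρ e, (x : h.BG) ∈ D → ∀ g, ∀ z ∈ L,
      z * cj ρ g (ρ x * e) = cj ρ g (ρ x * e) * z := fun x hx g z hz => by
    have h1 := h.inv g⁻¹ z hz
    have h2 := h.mem_cen.1 (hD hx) _ h1
    rw [← cj_one ρ z, ← mul_inv_cancel g, ← cj_cj, ← map_mul, ← map_mul, mul_assoc,
      ← h.comm _ h1 _ h.mem, ← mul_assoc (ρ x) (cj ρ g⁻¹ z), ← cj_mul_rho ρ x (cj ρ g⁻¹ z),
      mul_assoc, stab_comm x.2, ← mul_assoc, ← mul_assoc, h2]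
  have hY : ∀ x y : stab ρ e, (x : h.BG) ∈ D → (y : h.BG) ∈ D → ∀ g,
      ρ x * e * cj ρ g (ρ y * e) = cj ρ g (ρ y * e) * (ρ x * e) := fun x y hx hy g => by
    by_cases hg : g ∈ stab ρ e
    · obtain ⟨z, hz, hz'⟩ : ∃ z : stab ρ e, (z : h.BG) ∈ D ∧ (z : H) = g * y * g⁻¹ :=
        ⟨(⟨g, hg⟩ : stab ρ e) * y * (⟨g, hg⟩ : stab ρ e)⁻¹, hn.conj_mem _ hy (⟨g, hg⟩ : stab ρ e), rfl⟩
      have h1 : h.res (x * z) = h.res (z * x) := congrArg (kerR h.res) (ab_iff.1 ha _ hx _ hz)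
      have h3 : ρ (x * z) * e = ρ (z * x) * e :=
        (rs_eq_iff' h.idem (stab_comm (x * z).2) (stab_comm (z * x).2)).1 h1
      rw [map_mul, map_mul] at h3
      rw [map_mul, hg, cj_rho, ← hz']
      calc _ = ρ x * (e * ρ z) * e := by simp only [mul_assoc]
        _ = ρ z * (e * ρ x) * e := by
          rw [← stab_comm x.2, ← stab_comm z.2, ← mul_assoc, ← mul_assoc, h3]
        _ = _ := by simp only [mul_assoc]
    · calc _ = ρ x * (e * cj ρ g e) * cj ρ g (ρ y) := by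
            rw [stab_comm y.2, map_mul]; simp only [mul_assoc]
        _ = cj ρ g (ρ y) * (cj ρ g e * e) * ρ x := by rw [h.orth hg, h.orth' hg]; simp
        _ = _ := by rw [stab_comm x.2, map_mul]; simp only [mul_assoc]
  intro x hx
  obtain ⟨x, rfl⟩ := QuotientGroup.mk_surjective x
  refine h.mem_scal.2 ⟨_, h.max (L ∪ {z | ∃ g, ∃ y : stab ρ e, (y : h.BG) ∈ D ∧
    cj ρ g (ρ y * e) = z}) ?_ ?_ Set.subset_union_left (Or.inr ⟨1, x, hx, cj_one _ _⟩),
    by rw [mul_assoc, h.idem]⟩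
  · rintro a (ha | ⟨g, y, hy, rfl⟩) b (hb | ⟨g', y', hy', rfl⟩)
    · exact h.comm a ha b hb
    · exact hL _ hy' _ _ ha
    · exact (hL _ hy _ _ hb).symm
    · rw [← mul_inv_cancel_left g g', ← cj_cj, ← map_mul, ← map_mul, hY _ _ hy hy']
  · rintro g a (ha | ⟨g', y, hy, rfl⟩)
    · exact Or.inl (h.inv g a ha)
    · exact Or.inr ⟨_, y, hy, (cj_cj _ _ _ _).symm⟩

end Blk

theorem cj_out_mul (g a : H) : ρ g * cj ρ a e = cj ρ a (ρ (a⁻¹ * g * a) * e) := by
  rw [map_mul (cj ρ a), cj_rho]; simp [mul_assoc]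

/-- the structure theorem -/
theorem st [Finite H] [Group.IsSolvable H] [Finite V] [Nontrivial V] (inj : Function.Injective ρ)
    (hi : Irr ρ) : ∃ (N B C : Subgroup H) (K : Type u) (_ : Group K) (_ : Finite K)
      (C' U' A' : Subgroup K) (a n : ℕ), Group.IsSolvable K ∧ Sym C' U' A' ∧ B.Normal ∧ B ≤ C ∧
      C ≤ 𝐂(B) ∧ C ≤ N.normalCore ∧ finrank k V = a * n * N.index ∧
      C.relIndex N.normalCore ≤ a ^ N.index ∧ B.relIndex C ≤ U'.relIndex C' ^ N.index ∧
      ♯B ≤ ♯U' ^ N.index ∧ ♯U' ∣ Nat.card k ^ a - 1 ∧ U'.relIndex A' ≤ n ^ 2 ∧ C'.index ≤ a ∧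
      (∃ c : V → ℕ, (∀ g v, c (ρ g v) = c v) ∧ c 0 = 0 ∧ ∀ j ≤ N.index, ∃ v, c v = j) ∧
      (N.index = 1 → ∃ f : H →* K, Function.Surjective f) := by
  obtain ⟨L, e, h⟩ := exists_blk hi
  have := h.nontrivial
  have := Fintype.ofFinite (H ⧸ stab ρ e)
  have hC := normal_cen h.inv
  have hB := normal_scal h.inv
  obtain ⟨A, hA⟩ := Hyp.exists_sym ⟨normal_cen h.fld_inv, normal_scal h.fld_inv, inferInstance,
    scal_le_cen h.fld_comm, cen_le_cent (kerR_inj _), isCyclic_scal (kerR_inj _) h.isField, h.hmax⟩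
  have h1 := index_cen_le h.isField h.fld_inv
  have h2 : cen ρ L ≤ stab ρ e := fun g hg => hg e h.mem
  refine ⟨stab ρ e, scal ρ L, cen ρ L, h.BG, inferInstance, inferInstance, _, _, A,
    finrank k h.fld, finrank h.fld (LinearMap.range e), inferInstance, hA, hB, scal_le_cen h.comm,
    cen_le_cent inj, normal_le_normalCore.2 h2, ?_, ?_, ?_, ?_,
    card_scal_dvd (kerR_inj _) h.isField, hA.relIndex_le_sq (kerR_inj _) h.isField, h1,
    h.exists_inv, fun hN => ?_⟩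
  · letI := IsField.toField (R := h.fld) h.isField
    rw [h.finrank_eq, finrank_mul_finrank]
  · refine (h.step (Z := cen ρ L) (X₁ := ⊤) (X₂ := cen (kerR h.res) h.fld)
      (fun g hg => h.mem_pre.2 ⟨normalCore_le _ hg, mem_top _⟩) fun g _ hg x hx => ?_).trans
      (Nat.pow_le_pow_left ((relIndex_top_right _).le.trans h1) _)
    refine h.ext fun q => ?_
    obtain ⟨h3, h4⟩ := h.mem_pre.1 (hg q)
    have := congrArg (cj ρ q.out) (h.mem_cen.1 h4 _ (h.inv q.out⁻¹ x hx))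
    simpa [map_mul, cj_cj, mul_assoc] using this
  · refine h.step (fun g hg => h.mem_pre.2 ⟨h2 hg, h.mem_cen.2 fun x hx => by rw [hg x hx]⟩)
      fun g _ hg => ?_
    show ρ g ∈ L
    rw [← mul_one (ρ g), ← h.sum_eq, Finset.mul_sum]
    refine L.sum_mem fun q _ => ?_
    obtain ⟨h3, h4⟩ := h.mem_pre.1 (hg q)
    obtain ⟨x, hx, h5⟩ := h.mem_scal.1 h4
    rw [cj_out_mul, ← h5]
    exact h.inv _ _ (L.mul_mem hx h.mem)
  · rw [← relIndex_bot_left, ← relIndex_bot_left]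
    refine h.step (fun g hg => h.mem_pre.2 ⟨h2 (scal_le_cen h.comm hg),
      h.mem_scal.2 ⟨_, hg, rfl⟩⟩) fun g _ hg => inj (h.ext fun q => ?_)
    obtain ⟨h3, h4⟩ := h.mem_pre.1 (hg q)
    have h5 : rs e _ = rs e 1 :=
      ((QuotientGroup.eq_one_iff _).1 h4 : h.res _ = 1).trans (rs_one h.idem).symm
    rw [cj_out_mul, (rs_eq_iff' h.idem (stab_comm h3) (by simp)).1 h5, map_one, one_mul, one_mul]
  · rw [index_eq_one] at hN
    exact ⟨(QuotientGroup.mk' _).comp ((MonoidHom.id H).codRestrict _ fun g => hN.ge (mem_top g)),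
      (QuotientGroup.mk'_surjective _).comp fun g => ⟨g, rfl⟩⟩

end Cfsg.Agent.SLG
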